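import Mathlib

set_option autoImplicit false

/-!
# The Cayley transform in an algebra
-/

namespace Cfsg.Agent.Lib.Helper5.SpUnip

open Polynomial

variable {F : Type*} [Field F] {R : Type*} [Ring R] [Algebra F R]

/-- the Cayley relation `n = (a - 1)(a + 1)⁻¹` -/
def CayRel (a n : R) : Prop := n * (a + 1) = a - 1

theorem cayRel_iff (a n : R) : CayRel a n ↔ (1 - n) * a = 1 + n := by
  unfold CayRel
  rw [mul_add, mul_one, sub_mul, one_mul]
  constructor
  · intro h
    have h' : n * a = a - 1 - n := by rw [← h]; abel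
    rw [h']; abel
  · intro h
    have h' : n * a = a - (1 + n) := by rw [← h]; abel
    rw [h']; abel

theorem isUnit_add_one_of_nilpotent (h2 : (2 : F) ≠ 0) {a : R} (ha : IsNilpotent (a - 1)) :
    IsUnit (a + 1) := by
  have hu : IsUnit (algebraMap F R 2) := (isUnit_iff_ne_zero.2 h2).map (algebraMap F R)
  have hc : Commute (a - 1) (algebraMap F R 2) := (Algebra.commutes 2 (a - 1)).symm
  have := ha.isUnit_add_left_of_commute hu hc
  have e : algebraMap F R 2 + (a - 1) = a + 1 := by
    rw [map_ofNat, ← one_add_one_eq_two]; abel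
  rwa [e] at this

/-- the Cayley transform -/
noncomputable def cay (a : R) : R := (a - 1) * Ring.inverse (a + 1)

theorem cay_rel {a : R} (hu : IsUnit (a + 1)) : CayRel a (cay a) := by
  unfold CayRel cay
  rw [Ring.inverse_mul_cancel_right _ _ hu]

theorem cayRel_unique {a n n' : R} (hu : IsUnit (a + 1)) (h : CayRel a n) (h' : CayRel a n') :
    n = n' := by
  unfold CayRel at h h'
  exact hu.mul_left_inj.1 (h.trans h'.symm)

theorem cayRel_inj {a a' n : R} (hn : IsNilpotent n) (h : CayRel a n) (h' : CayRel a' n) :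
    a = a' := by
  rw [cayRel_iff] at h h'
  exact hn.isUnit_one_sub.mul_right_inj.1 (h.trans h'.symm)

theorem cay_commute {a : R} (hu : IsUnit (a + 1)) : Commute (cay a) a := by
  obtain ⟨U, hU⟩ := hu
  have h1 : Commute a (U : R) := by
    rw [hU]
    exact (Commute.refl a).add_right (Commute.one_right a)
  have h3 : cay a = (a - 1) * ((U⁻¹ : Rˣ) : R) := by
    unfold cay
    rw [← hU, Ring.inverse_unit]
  rw [h3]
  apply Commute.symm
  apply Commute.mul_right
  · exact (Commute.refl a).sub_right (Commute.one_right a)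
  · exact h1.units_inv_right

theorem cay_pow_eq_zero {a : R} (hu : IsUnit (a + 1)) {k : ℕ} (hk : (a - 1) ^ k = 0) :
    (cay a) ^ k = 0 := by
  obtain ⟨U, hU⟩ := hu
  have h1 : Commute (a - 1) (U : R) := by
    rw [hU]
    exact ((Commute.refl a).add_right (Commute.one_right a)).sub_left
      (Commute.one_left _)
  have h3 : cay a = (a - 1) * ((U⁻¹ : Rˣ) : R) := by
    unfold cay
    rw [← hU, Ring.inverse_unit]
  rw [h3, (h1.units_inv_right).mul_pow, hk, zero_mul]

theorem cay_eq_zero_iff {a : R} (hu : IsUnit (a + 1)) : cay a = 0 ↔ a = 1 := by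
  constructor
  · intro h
    have := cay_rel hu
    rw [h] at this
    unfold CayRel at this
    rw [zero_mul] at this
    exact (sub_eq_zero.1 this.symm)
  · intro h
    unfold cay
    rw [h, sub_self, zero_mul]

/-- conjugation -/
theorem cayRel_conj {a n h h' : R} (hh : h * h' = 1) (hh' : h' * h = 1) (hr : CayRel a n) :
    CayRel (h * a * h') (h * n * h') := by
  unfold CayRel at hr ⊢
  have e1 : h * n * h' * (h * a * h' + 1) = h * (n * (a + 1)) * h' := by
    have e2 : h * n * h' * (h * a * h') = h * n * (h' * h) * a * h' := by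
      simp only [mul_assoc]
    rw [mul_add, mul_one, e2, hh', mul_one, mul_add, mul_one, mul_add, add_mul]
    simp only [mul_assoc]
  rw [e1, hr, mul_sub, sub_mul, mul_one, hh]

/-- inverse Cayley transform -/
theorem exists_of_nilpotent {n : R} (hn : IsNilpotent n) :
    ∃ a : R, CayRel a n ∧ a * (1 - n) = 1 + n ∧ ∀ k, n ^ k = 0 → (a - 1) ^ k = 0 := by
  obtain ⟨W, hW⟩ := hn.isUnit_one_sub
  have hc : Commute n (W : R) := by
    rw [hW]
    exact (Commute.one_right n).sub_right (Commute.refl n)
  refine ⟨(1 + n) * ((W⁻¹ : Rˣ) : R), ?_, ?_, ?_⟩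
  · rw [cayRel_iff, ← mul_assoc]
    have : (1 - n) * (1 + n) = (1 + n) * (1 - n) := by noncomm_ring
    rw [this, mul_assoc, ← hW, Units.mul_inv, mul_one]
  · rw [← hW, Units.inv_mul_cancel_right]
  · intro k hk
    have e1 : (1 + n) * ((W⁻¹ : Rˣ) : R) - 1 = ((2 : ℕ) • n) * ((W⁻¹ : Rˣ) : R) := by
      have : (1 : R) = (W : R) * ((W⁻¹ : Rˣ) : R) := by rw [Units.mul_inv]
      nth_rewrite 2 [this]
      rw [← sub_mul, hW, two_smul]
      congr 1
      abel
    have hc' : Commute ((2 : ℕ) • n) ((W⁻¹ : Rˣ) : R) :=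
      (hc.units_inv_right).smul_left 2
    rw [e1, hc'.mul_pow, _root_.smul_pow, hk, smul_zero, zero_mul]

theorem sub_one_pow_char {p : ℕ} [Fact p.Prime] [CharP F p] (a : R) :
    (a - 1) ^ p = a ^ p - 1 := by
  have h : ((X : F[X]) - 1) ^ p = X ^ p - 1 := by
    rw [sub_pow_char, one_pow]
  have := congrArg (aeval a) h
  simpa using this

end Cfsg.Agent.Lib.Helper5.SpUnip
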