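import Cfsg.Agent.Lib.Helper5.SpUnip.Canon

set_option autoImplicit false

/-!
# Peeling a cyclic nondegenerate piece of even size
-/

namespace Cfsg.Agent.Lib.Helper5.SpUnip

open Module Cfsg.Agent.Lib.Helper4.JordanNil

variable {F : Type*} [Field F]
variable {V : Type*} [AddCommGroup V] [Module F V]

/-- abstract descending elimination -/
theorem elim_desc {S : Type*} (val : S → ℕ → F) (top : ℕ)
    (step : ∀ s l, l < top → ∃ s', val s' l = 0 ∧ ∀ l', l < l' → val s' l' = val s l') (s : S) :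
    ∃ s', (∀ l, l < top → val s' l = 0) ∧ ∀ l', top ≤ l' → val s' l' = val s l' := by
  have key : ∀ j, j ≤ top → ∃ s', (∀ l, top - j ≤ l → l < top → val s' l = 0) ∧
      ∀ l', top ≤ l' → val s' l' = val s l' := by
    intro j
    induction j with
    | zero => intro _; exact ⟨s, fun l h1 h2 => by omega, fun _ _ => rfl⟩
    | succ j ih =>
      intro hj
      obtain ⟨s₁, h1, h2⟩ := ih (by omega)
      obtain ⟨s₂, h3, h4⟩ := step s₁ (top - (j + 1)) (by omega)
      refine ⟨s₂, fun l hl1 hl2 => ?_, fun l' hl' => ?_⟩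
      · rcases Nat.eq_or_lt_of_le hl1 with h | h
        · rw [← h]; exact h3
        · rw [h4 l h]; exact h1 l (by omega) hl2
      · rw [h4 l' (by omega)]; exact h2 l' hl'
  obtain ⟨s', h1, h2⟩ := key top le_rfl
  exact ⟨s', fun l hl => h1 l (by omega) hl, h2⟩

variable {B : LinearMap.BilinForm F V} {N : V →ₗ[F] V}

theorem pow_apply_eq_zero {i k : ℕ} (hNi : N ^ i = 0) (hk : i ≤ k) (x : V) : (N ^ k) x = 0 := by
  rw [pow_eq_zero_of_le hk hNi]
  rfl

theorem exists_top_ne_zero (h : IsSN B N) (h2 : (2 : F) ≠ 0) {k : ℕ} (hk : Odd k)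
    (hN : N ^ k ≠ 0) : ∃ x, B x ((N ^ k) x) ≠ 0 := by
  by_contra hcon
  push Not at hcon
  apply hN
  ext y
  rw [LinearMap.zero_apply]
  apply h.nondeg_right
  intro x
  have h1 := hcon (x + y)
  simp only [map_add, LinearMap.add_apply] at h1
  rw [hcon x, hcon y, h.symm_odd hk y x] at h1
  have h3 : 2 * B x ((N ^ k) y) = 0 := by linear_combination h1
  rcases mul_eq_zero.1 h3 with h4 | h4
  · exact absurd h4 h2
  · exact h4

theorem even_step (h : IsSN B N) {r : ℕ} (hr : Even r) (a : F) (x : V) (l : ℕ) :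
    B (x + a • (N ^ r) x) ((N ^ l) (x + a • (N ^ r) x)) =
      B x ((N ^ l) x) + 2 * a * B x ((N ^ (r + l)) x) +
        a ^ 2 * B x ((N ^ (r + (l + r))) x) := by
  have e1 : (N ^ l) (x + a • (N ^ r) x) = (N ^ l) x + a • (N ^ (l + r)) x := by
    rw [map_add, map_smul, pow_add, Module.End.mul_apply]
  have e2 : B ((N ^ r) x) ((N ^ l) x) = B x ((N ^ (r + l)) x) := by
    rw [h.pow_pow, hr.neg_one_pow, one_mul]
  have e3 : B ((N ^ r) x) ((N ^ (l + r)) x) = B x ((N ^ (r + (l + r))) x) := by
    rw [h.pow_pow, hr.neg_one_pow, one_mul]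
  have e4 : (N ^ (l + r)) x = (N ^ (r + l)) x := by rw [add_comm]
  rw [e1]
  simp only [map_add, map_smul, LinearMap.add_apply, LinearMap.smul_apply, smul_eq_mul, e2, e3]
  rw [e4]
  ring

theorem exists_even_normal (h : IsSN B N) (h2 : (2 : F) ≠ 0) {i : ℕ} (hi : Even i)
    (hNi : N ^ i = 0) {c : F} (hc0 : c ≠ 0) (x : V) (hx : B x ((N ^ (i - 1)) x) = c) :
    ∃ x', B x' ((N ^ (i - 1)) x') = c ∧ ∀ l, l < i - 1 → B x' ((N ^ l) x') = 0 := by
  have hi0 : i ≠ 0 := by
    rintro rfl
    apply hc0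
    rw [← hx]
    have : x = 0 := by
      have := LinearMap.congr_fun hNi x
      simpa using this
    rw [this]
    simp
  have hi2 : 2 ≤ i := by
    obtain ⟨s, hs⟩ := hi
    omega
  have htop : Odd (i - 1) := by
    obtain ⟨s, hs⟩ := hi
    exact ⟨s - 1, by omega⟩
  let S := {x : V // B x ((N ^ (i - 1)) x) = c}
  obtain ⟨s', h1, h3⟩ := elim_desc (S := S) (fun s l => B s.1 ((N ^ l) s.1)) (i - 1) (by
    intro s l hl
    by_cases hle : Even l
    · exact ⟨s, h.self_pow_of_even hle _, fun _ _ => rfl⟩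
    · rw [Nat.not_even_iff_odd] at hle
      have hr : Even (i - 1 - l) := Nat.Odd.sub_odd htop hle
      set r := i - 1 - l with hrdef
      set a : F := - B s.1 ((N ^ l) s.1) / (2 * c) with ha
      have key : ∀ l', l < l' → B (s.1 + a • (N ^ r) s.1) ((N ^ l') (s.1 + a • (N ^ r) s.1)) =
          B s.1 ((N ^ l') s.1) := by
        intro l' hl'
        have g1 : i ≤ r + l' := by omega
        have g2 : i ≤ r + (l' + r) := by omega
        rw [even_step h hr, pow_apply_eq_zero hNi g1, pow_apply_eq_zero hNi g2]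
        simp
      refine ⟨⟨s.1 + a • (N ^ r) s.1, ?_⟩, ?_, key⟩
      · rw [key _ hl]
        exact s.2
      · change B (s.1 + a • (N ^ r) s.1) ((N ^ l) (s.1 + a • (N ^ r) s.1)) = 0
        rw [even_step h hr, pow_apply_eq_zero hNi (k := r + (l + r)) (by omega)]
        have e5 : r + l = i - 1 := by omega
        rw [e5, s.2, ha]
        field_simp
        simp) ⟨x, hx⟩
  exact ⟨s'.1, s'.2, h1⟩

/-! ### the canonical family of an even cyclic piece -/

/-- block sizes -/
def evE (i : ℕ) : Fin 1 → ℕ := fun _ => i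

/-- the pairing of indices -/
def evσ (i : ℕ) : Idx (evE i) → Idx (evE i) :=
  fun j => ⟨j.1, ⟨i - 1 - j.2.val, by have : j.2.val < i := j.2.2; change _ < i; omega⟩⟩

/-- the Gram constants -/
def evd (i : ℕ) (c : F) : Idx (evE i) → F := fun j => (-1) ^ j.2.val * c

/-- the family -/
def evv (i : ℕ) (N : V →ₗ[F] V) (x : V) : Idx (evE i) → V := fun j => (N ^ j.2.val) x

theorem even_canon (h : IsSN B N) {i : ℕ} (hNi : N ^ i = 0) {c : F} (hc0 : c ≠ 0) (x : V)
    (hx : B x ((N ^ (i - 1)) x) = c) (hn : ∀ l, l < i - 1 → B x ((N ^ l) x) = 0) :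
    IsCanon B N (evE i) (evσ i) (evd i c) (evv i N x) := by
  refine ⟨?_, ?_, ?_, ?_⟩
  · intro s j
    change N ((N ^ j.val) x) = _
    have hj : j.val < i := j.2
    split_ifs with hlt
    · change _ = (N ^ (j.val + 1)) x
      rw [pow_succ', Module.End.mul_apply]
    · rw [← Module.End.mul_apply, ← pow_succ']
      apply pow_apply_eq_zero hNi
      change ¬ (j.val + 1 < i) at hlt
      omega
  · rintro ⟨s, a⟩ ⟨s', b⟩
    have ha : a.val < i := a.2
    have hb : b.val < i := b.2
    change B ((N ^ a.val) x) ((N ^ b.val) x) = _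
    rw [h.pow_pow]
    have hss : s' = s := Subsingleton.elim _ _
    subst hss
    by_cases hab : a.val + b.val = i - 1
    · rw [if_pos, hab, hx]
      · rfl
      · have hb' : b = ⟨i - 1 - a.val, by change _ < i; omega⟩ :=
          Fin.ext (by change b.val = i - 1 - a.val; omega)
        rw [hb']
        rfl
    · rw [if_neg]
      · rcases Nat.lt_or_ge (a.val + b.val) (i - 1) with hlt | hge
        · rw [hn _ hlt, mul_zero]
        · rw [pow_apply_eq_zero hNi (by omega), map_zero, mul_zero]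
      · intro heq
        apply hab
        have := congrArg (fun z : Idx (evE i) => z.2.val) heq
        change b.val = i - 1 - a.val at this
        omega
  · rintro ⟨s, a⟩ ⟨s', b⟩ hab
    have ha : a.val < i := a.2
    have hb : b.val < i := b.2
    have hss : s' = s := Subsingleton.elim _ _
    subst hss
    have := congrArg (fun z : Idx (evE i) => z.2.val) hab
    change i - 1 - a.val = i - 1 - b.val at this
    have hab' : a = b := Fin.ext (by omega)
    rw [hab']
  · intro j
    exact mul_ne_zero (pow_ne_zero _ (by simp)) hc0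

/-- peeling an even cyclic piece -/
theorem peel_even (h : IsSN B N) (h2 : (2 : F) ≠ 0) {i : ℕ} (hi : Even i)
    (hNi : N ^ i = 0) {c : F} (hc0 : c ≠ 0) (x : V) (hx : B x ((N ^ (i - 1)) x) = c) :
    ∃ v, IsCanon B N (evE i) (evσ i) (evd i c) v := by
  obtain ⟨x', h1, h3⟩ := exists_even_normal h h2 hi hNi hc0 x hx
  exact ⟨_, even_canon h hNi hc0 x' h1 h3⟩

end Cfsg.Agent.Lib.Helper5.SpUnip
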