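import Cfsg.Agent.Lib.Helper5.SpUnip.Rep
import Cfsg.Agent.Lib.Helper5.SpUnip.PeelEven
import Cfsg.Agent.Lib.Helper4.JordanGL

set_option autoImplicit false

/-!
# The hyperbolic doubling of a nilpotent endomorphism, and the basic pieces
-/

namespace Cfsg.Agent.Lib.Helper5.SpUnip

open Module Cfsg.Agent.Lib.Helper4.JordanNil

universe u

variable {F : Type u} [Field F]

section double

variable {W : Type*} [AddCommGroup W] [Module F W]

/-- the alternating form on `W × W*` -/
def dblB (F : Type u) [Field F] (W : Type*) [AddCommGroup W] [Module F W] :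
    LinearMap.BilinForm F (W × Dual F W) :=
  LinearMap.mk₂ F (fun x y => y.2 x.1 - x.2 y.1)
    (fun x x' y => by simp only [Prod.fst_add, Prod.snd_add, map_add, LinearMap.add_apply]; ring)
    (fun c x y => by
      simp only [Prod.smul_fst, Prod.smul_snd, map_smul, LinearMap.smul_apply, smul_eq_mul]; ring)
    (fun x y y' => by simp only [Prod.fst_add, Prod.snd_add, map_add, LinearMap.add_apply]; ring)
    (fun c x y => by
      simp only [Prod.smul_fst, Prod.smul_snd, map_smul, LinearMap.smul_apply, smul_eq_mul]; ring)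

@[simp] theorem dblB_apply (x y : W × Dual F W) : dblB F W x y = y.2 x.1 - x.2 y.1 := rfl

/-- the doubled endomorphism -/
def dblN (T : W →ₗ[F] W) : (W × Dual F W) →ₗ[F] (W × Dual F W) :=
  T.prodMap (-T.dualMap)

theorem neg_dualMap_pow_apply (T : W →ₗ[F] W) (k : ℕ) (f : Dual F W) (w : W) :
    (((-T.dualMap) ^ k) f) w = (-1) ^ k * f ((T ^ k) w) := by
  induction k generalizing f w with
  | zero => simp
  | succ k ih =>
    rw [pow_succ, Module.End.mul_apply, ih, LinearMap.neg_apply, LinearMap.neg_apply,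
      LinearMap.dualMap_apply, pow_succ' T k, Module.End.mul_apply]
    ring

theorem neg_dualMap_pow (T : W →ₗ[F] W) (k : ℕ) :
    (-T.dualMap) ^ k = ((-1 : F) ^ k) • (T ^ k).dualMap := by
  ext f w
  rw [neg_dualMap_pow_apply]
  simp

theorem dbl_isSN [FiniteDimensional F W] {T : W →ₗ[F] W} (hT : IsNilpotent T) :
    IsSN (dblB F W) (dblN T) := by
  refine ⟨fun x => ?_, fun x hx => ?_, fun x y => ?_, ?_⟩
  · simp
  · have e2 : x.2 = 0 := by
      ext w
      have := hx (w, 0)
      simpa using this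
    have e1 : x.1 = 0 := by
      rw [← Module.forall_dual_apply_eq_zero_iff F]
      intro f
      have := hx (0, f)
      simpa using this
    exact Prod.ext e1 e2
  · simp only [dblN, dblB_apply, LinearMap.prodMap_apply, LinearMap.neg_apply,
      LinearMap.dualMap_apply]
    ring
  · obtain ⟨k, hk⟩ := hT
    refine ⟨k, ?_⟩
    unfold dblN
    rw [prodMap_pow, neg_dualMap_pow, hk]
    ext x <;> simp

theorem dbl_rk [FiniteDimensional F W] (T : W →ₗ[F] W) (k : ℕ) :
    rk (dblN T) k = 2 * rk T k := by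
  unfold dblN
  rw [rk_prod]
  have : rk (-T.dualMap) k = rk T k := by
    unfold rk
    rw [neg_dualMap_pow, LinearMap.range_smul _ _ (pow_ne_zero _ (by simp)),
      LinearMap.finrank_range_dualMap_eq_finrank_range]
  rw [this]
  ring

end double

theorem IsSN.smul {V : Type*} [AddCommGroup V] [Module F V] {B : LinearMap.BilinForm F V}
    {N : V →ₗ[F] V} (h : IsSN B N) {a : F} (ha : a ≠ 0) : IsSN (a • B) N := by
  refine ⟨fun x => ?_, fun x hx => ?_, fun x y => ?_, h.nil⟩
  · rw [LinearMap.smul_apply, LinearMap.smul_apply, h.alt, smul_zero]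
  · apply h.nondeg
    intro y
    have := hx y
    rw [LinearMap.smul_apply, LinearMap.smul_apply, smul_eq_mul] at this
    rcases mul_eq_zero.1 this with h0 | h0
    · exact absurd h0 ha
    · exact h0
  · rw [LinearMap.smul_apply, LinearMap.smul_apply, LinearMap.smul_apply, LinearMap.smul_apply,
      h.skew, smul_neg]

/-- a single Jordan block -/
theorem exists_block (e : ℕ) : ∃ T : (Fin e → F) →ₗ[F] (Fin e → F),
    IsNilpotent T ∧ ∀ k, rk T k = e - k := by
  obtain ⟨T, b, hJ⟩ := exists_nilpotent_of_type (F := F) (n := e) (fun _ : Fin 1 => e) (by simp)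
  refine ⟨T, ⟨e, ?_⟩, fun k => ?_⟩
  · rw [hJ.pow_eq_zero_iff]
    intro i
    exact le_rfl
  · unfold rk
    rw [hJ.finrank_range_pow]
    simp

/-- the pair piece -/
theorem exists_pair_piece (e : ℕ) : ∃ (V : Type u) (_ : AddCommGroup V) (_ : Module F V)
    (_ : FiniteDimensional F V) (B : LinearMap.BilinForm F V) (N : V →ₗ[F] V),
    IsSN B N ∧ (∀ k, rk N k = 2 * (e - k)) ∧ N ^ e = 0 := by
  obtain ⟨T, hT, hrk⟩ := exists_block (F := F) e
  refine ⟨(Fin e → F) × Dual F (Fin e → F), inferInstance, inferInstance, inferInstance,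
    dblB F _, dblN T, dbl_isSN hT, fun k => ?_, ?_⟩
  · rw [dbl_rk, hrk]
  · rw [← rk_eq_zero_iff, dbl_rk, hrk]
    simp

/-- the cyclic piece of even size with prescribed constant -/
theorem exists_even_piece (h2 : (2 : F) ≠ 0) {e : ℕ} (he : Even e) (he0 : 0 < e) {c : F}
    (hc : c ≠ 0) : ∃ (V : Type u) (_ : AddCommGroup V) (_ : Module F V)
    (_ : FiniteDimensional F V) (B : LinearMap.BilinForm F V) (N : V →ₗ[F] V),
    IsSN B N ∧ (∀ k, rk N k = e - k) ∧ N ^ e = 0 ∧ Disc B N e c := by
  obtain ⟨V, i1, i2, i3, B, N, h, hrk, hNe⟩ := exists_pair_piece (F := F) e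
  have htop : Odd (e - 1) := by
    obtain ⟨s, hs⟩ := he
    exact ⟨s - 1, by omega⟩
  have hN1 : N ^ (e - 1) ≠ 0 := by
    intro h0
    have := (rk_eq_zero_iff N (e - 1)).2 h0
    rw [hrk] at this
    omega
  obtain ⟨x, hx⟩ := exists_top_ne_zero h h2 htop hN1
  obtain ⟨v, hv⟩ := peel_even h h2 he hNe hx x rfl
  set c₀ := B x ((N ^ (e - 1)) x) with hc₀
  have ha : c / c₀ ≠ 0 := div_ne_zero hc hx
  have hM := hv.good
  have hS := (h.restrict hM).smul ha
  have hrk' : ∀ k, rk (N.restrict hM.inv) k = e - k := by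
    intro k
    rw [hv.rk]
    simp [evE]
  have hNe' : (N.restrict hM.inv) ^ e = 0 := by
    rw [← rk_eq_zero_iff, hrk']
    simp
  refine ⟨_, inferInstance, inferInstance, inferInstance, (c / c₀) • B.restrict _,
    N.restrict hM.inv, hS, hrk', hNe', ?_⟩
  -- the discriminant
  set x₀ := hv.basis ⟨0, ⟨0, he0⟩⟩ with hx₀
  have e1 : ((N.restrict hM.inv) ^ (e - 1)) x₀ = hv.basis ⟨0, ⟨e - 1, by change _ < e; omega⟩⟩ := by
    rw [hx₀, hv.isJB.pow_apply, dif_pos]
    · congr 2
      apply Fin.ext
      simp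
    · change 0 + (e - 1) < e
      omega
  have e2 : (B.restrict (Submodule.span F (Set.range v))) x₀
      (((N.restrict hM.inv) ^ (e - 1)) x₀) = c₀ := by
    rw [e1]
    change B (hv.basis _ : V) (hv.basis _ : V) = c₀
    rw [hv.basis_apply, hv.basis_apply, hv.mg, if_pos]
    · simp [evd]
    · unfold evσ
      congr 1
  have e3 : ((c / c₀) • B.restrict (Submodule.span F (Set.range v))) x₀
      (((N.restrict hM.inv) ^ (e - 1)) x₀) = c := by
    rw [LinearMap.smul_apply, LinearMap.smul_apply, e2, smul_eq_mul]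
    field_simp
  have hne : ((N.restrict hM.inv) ^ (e - 1)) x₀ ≠ 0 := by
    intro h0
    rw [h0, map_zero] at e2
    exact hx e2.symm
  have hρ : rk (N.restrict hM.inv) (e - 1) = 1 := by
    rw [hrk']
    omega
  have := disc_single ((c / c₀) • B.restrict (Submodule.span F (Set.range v)))
    (N.restrict hM.inv) e x₀ (span_sup_ker_of_rk_one hρ x₀ hne) (by rw [e3]; exact hc)
  rw [e3] at this
  exact this

end Cfsg.Agent.Lib.Helper5.SpUnip
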