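import Mathlib

set_option autoImplicit false

/-!
# Skew-adjoint nilpotent endomorphisms of symplectic spaces: basic notions
-/

namespace Cfsg.Agent.Lib.Helper5.SpUnip

open Module

variable {F : Type*} [Field F]
variable {V : Type*} [AddCommGroup V] [Module F V]
variable {V' : Type*} [AddCommGroup V'] [Module F V']
variable {V'' : Type*} [AddCommGroup V''] [Module F V'']

/-- `N` is a nilpotent endomorphism, skew-adjoint for the nondegenerate alternating form `B`. -/
structure IsSN (B : LinearMap.BilinForm F V) (N : V →ₗ[F] V) : Prop where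
  alt : B.IsAlt
  nondeg : ∀ x, (∀ y, B x y = 0) → x = 0
  skew : ∀ x y, B (N x) y = - B x (N y)
  nil : IsNilpotent N

section identities

variable {B : LinearMap.BilinForm F V} {N : V →ₗ[F] V}

theorem IsSN.swap (h : IsSN B N) (x y : V) : B x y = - B y x := by
  have := h.alt.neg_eq x y
  rw [← this, neg_neg]

theorem IsSN.nondeg_right (h : IsSN B N) (y : V) (hy : ∀ x, B x y = 0) : y = 0 := by
  apply h.nondeg
  intro x
  rw [h.swap, hy, neg_zero]

theorem IsSN.skew_pow (h : IsSN B N) (k : ℕ) (x y : V) :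
    B ((N ^ k) x) y = (-1) ^ k * B x ((N ^ k) y) := by
  induction k generalizing x y with
  | zero => simp
  | succ k ih =>
    have e1 : (N ^ (k + 1)) x = (N ^ k) (N x) := by rw [pow_succ, Module.End.mul_apply]
    have e2 : (N ^ (k + 1)) y = N ((N ^ k) y) := by rw [pow_succ', Module.End.mul_apply]
    rw [e1, e2, ih, h.skew]
    ring

theorem IsSN.skew_pow' (h : IsSN B N) (k : ℕ) (x y : V) :
    B x ((N ^ k) y) = (-1) ^ k * B ((N ^ k) x) y := by
  rw [h.skew_pow, ← mul_assoc, ← pow_add, ← two_mul, pow_mul]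
  simp

theorem IsSN.self_pow_even (h : IsSN B N) (s : ℕ) (x : V) : B x ((N ^ (2 * s)) x) = 0 := by
  have e1 : (N ^ (2 * s)) x = (N ^ s) ((N ^ s) x) := by
    rw [two_mul, pow_add, Module.End.mul_apply]
  rw [e1, h.skew_pow', h.alt, mul_zero]

theorem IsSN.self_pow_of_even (h : IsSN B N) {k : ℕ} (hk : Even k) (x : V) :
    B x ((N ^ k) x) = 0 := by
  obtain ⟨s, rfl⟩ := hk
  rw [← two_mul]
  exact h.self_pow_even s x

theorem IsSN.symm_odd (h : IsSN B N) {k : ℕ} (hk : Odd k) (x y : V) :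
    B x ((N ^ k) y) = B y ((N ^ k) x) := by
  rw [h.skew_pow', hk.neg_one_pow, h.swap]
  ring

/-- `B (N^a x) (N^b y) = (-1)^a B x (N^(a+b) y)` -/
theorem IsSN.pow_pow (h : IsSN B N) (a b : ℕ) (x y : V) :
    B ((N ^ a) x) ((N ^ b) y) = (-1) ^ a * B x ((N ^ (a + b)) y) := by
  rw [h.skew_pow, pow_add, Module.End.mul_apply]

end identities

/-- isomorphism of triples -/
def Iso (B : LinearMap.BilinForm F V) (N : V →ₗ[F] V)
    (B' : LinearMap.BilinForm F V') (N' : V' →ₗ[F] V') : Prop :=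
  ∃ φ : V ≃ₗ[F] V', (∀ x y, B' (φ x) (φ y) = B x y) ∧ ∀ x, φ (N x) = N' (φ x)

theorem Iso.refl (B : LinearMap.BilinForm F V) (N : V →ₗ[F] V) : Iso B N B N :=
  ⟨LinearEquiv.refl F V, fun _ _ => rfl, fun _ => rfl⟩

theorem Iso.symm {B : LinearMap.BilinForm F V} {N : V →ₗ[F] V}
    {B' : LinearMap.BilinForm F V'} {N' : V' →ₗ[F] V'} (h : Iso B N B' N') : Iso B' N' B N := by
  obtain ⟨φ, h1, h2⟩ := h
  refine ⟨φ.symm, fun x y => ?_, fun x => ?_⟩
  · have := h1 (φ.symm x) (φ.symm y)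
    simpa using this.symm
  · apply φ.injective
    rw [h2]
    simp

theorem Iso.trans {B : LinearMap.BilinForm F V} {N : V →ₗ[F] V}
    {B' : LinearMap.BilinForm F V'} {N' : V' →ₗ[F] V'}
    {B'' : LinearMap.BilinForm F V''} {N'' : V'' →ₗ[F] V''}
    (h : Iso B N B' N') (h' : Iso B' N' B'' N'') : Iso B N B'' N'' := by
  obtain ⟨φ, h1, h2⟩ := h
  obtain ⟨ψ, h3, h4⟩ := h'
  refine ⟨φ.trans ψ, fun x y => ?_, fun x => ?_⟩
  · simp [h3, h1]
  · simp [h2, h4]

theorem iso_pow {N : V →ₗ[F] V} {N' : V' →ₗ[F] V'} (φ : V ≃ₗ[F] V')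
    (h2 : ∀ x, φ (N x) = N' (φ x)) (k : ℕ) (x : V) : φ ((N ^ k) x) = (N' ^ k) (φ x) := by
  induction k generalizing x with
  | zero => simp
  | succ k ih => rw [pow_succ, Module.End.mul_apply, ih, h2, pow_succ, Module.End.mul_apply]

theorem IsSN.of_iso {B : LinearMap.BilinForm F V} {N : V →ₗ[F] V}
    {B' : LinearMap.BilinForm F V'} {N' : V' →ₗ[F] V'} (h : IsSN B N) (hi : Iso B N B' N') :
    IsSN B' N' := by
  obtain ⟨φ, h1, h2⟩ := hi
  have hs : ∀ y, ∃ x, φ x = y := φ.surjective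
  refine ⟨fun y => ?_, fun y hy => ?_, fun y z => ?_, ?_⟩
  · obtain ⟨x, rfl⟩ := hs y
    rw [h1]; exact h.alt x
  · obtain ⟨x, rfl⟩ := hs y
    have : x = 0 := h.nondeg x (fun z => by rw [← h1]; exact hy (φ z))
    rw [this, map_zero]
  · obtain ⟨x, rfl⟩ := hs y
    obtain ⟨w, rfl⟩ := hs z
    rw [← h2, h1, ← h2, h1, h.skew]
  · obtain ⟨k, hk⟩ := h.nil
    refine ⟨k, ?_⟩
    ext y
    obtain ⟨x, rfl⟩ := hs y
    rw [← iso_pow φ h2, hk]
    simp

/-- rank of `N^k` -/
noncomputable def rk (N : V →ₗ[F] V) (k : ℕ) : ℕ := finrank F (LinearMap.range (N ^ k))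

theorem rk_zero (N : V →ₗ[F] V) : rk N 0 = finrank F V := by
  unfold rk
  rw [pow_zero, Module.End.one_eq_id, LinearMap.range_id, finrank_top]

theorem rk_eq_zero_iff [FiniteDimensional F V] (N : V →ₗ[F] V) (k : ℕ) : rk N k = 0 ↔ N ^ k = 0 := by
  unfold rk
  rw [Submodule.finrank_eq_zero, LinearMap.range_eq_bot]

theorem rk_iso {B : LinearMap.BilinForm F V} {N : V →ₗ[F] V}
    {B' : LinearMap.BilinForm F V'} {N' : V' →ₗ[F] V'} (hi : Iso B N B' N') (k : ℕ) :
    rk N k = rk N' k := by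
  obtain ⟨φ, h1, h2⟩ := hi
  unfold rk
  have : LinearMap.range (N' ^ k) = (LinearMap.range (N ^ k)).map (φ : V →ₗ[F] V') := by
    ext y
    constructor
    · rintro ⟨z, rfl⟩
      refine ⟨(N ^ k) (φ.symm z), ⟨_, rfl⟩, ?_⟩
      change φ ((N ^ k) (φ.symm z)) = _
      rw [iso_pow φ h2]
      simp
    · rintro ⟨_, ⟨x, rfl⟩, rfl⟩
      refine ⟨φ x, ?_⟩
      change _ = φ ((N ^ k) x)
      rw [iso_pow φ h2]
  rw [this, LinearEquiv.finrank_map_eq]

/-! ### products -/

/-- orthogonal direct sum of two forms -/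
def prodB (B : LinearMap.BilinForm F V) (B' : LinearMap.BilinForm F V') :
    LinearMap.BilinForm F (V × V') :=
  B.compl₁₂ (LinearMap.fst F V V') (LinearMap.fst F V V') +
    B'.compl₁₂ (LinearMap.snd F V V') (LinearMap.snd F V V')

@[simp] theorem prodB_apply (B : LinearMap.BilinForm F V) (B' : LinearMap.BilinForm F V')
    (x y : V × V') : prodB B B' x y = B x.1 y.1 + B' x.2 y.2 := by
  simp [prodB]

theorem prodMap_pow_apply (N : V →ₗ[F] V) (N' : V' →ₗ[F] V') (k : ℕ) (x : V × V') :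
    ((N.prodMap N') ^ k) x = ((N ^ k) x.1, (N' ^ k) x.2) := by
  induction k generalizing x with
  | zero => simp
  | succ k ih =>
    rw [pow_succ, Module.End.mul_apply, ih, pow_succ, Module.End.mul_apply, pow_succ,
      Module.End.mul_apply]
    simp

theorem prodMap_pow (N : V →ₗ[F] V) (N' : V' →ₗ[F] V') (k : ℕ) :
    (N.prodMap N') ^ k = (N ^ k).prodMap (N' ^ k) := by
  ext x <;> simp [prodMap_pow_apply]

theorem IsSN.prod {B : LinearMap.BilinForm F V} {N : V →ₗ[F] V}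
    {B' : LinearMap.BilinForm F V'} {N' : V' →ₗ[F] V'} (h : IsSN B N) (h' : IsSN B' N') :
    IsSN (prodB B B') (N.prodMap N') := by
  refine ⟨fun x => ?_, fun x hx => ?_, fun x y => ?_, ?_⟩
  · rw [prodB_apply, h.alt, h'.alt, add_zero]
  · have e1 : x.1 = 0 := h.nondeg _ (fun y => by simpa using hx (y, 0))
    have e2 : x.2 = 0 := h'.nondeg _ (fun y => by simpa using hx (0, y))
    exact Prod.ext e1 e2
  · simp only [prodB_apply, LinearMap.prodMap_apply, h.skew, h'.skew]
    ring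
  · obtain ⟨k, hk⟩ := h.nil
    obtain ⟨k', hk'⟩ := h'.nil
    refine ⟨k + k', ?_⟩
    rw [prodMap_pow, pow_add, hk, zero_mul, pow_add, hk', mul_zero]
    ext x <;> simp

/-- a product of submodules as a product type -/
def prodSubEquiv (p : Submodule F V) (q : Submodule F V') : ↥(p.prod q) ≃ₗ[F] (↥p × ↥q) where
  toFun x := (⟨x.1.1, x.2.1⟩, ⟨x.1.2, x.2.2⟩)
  invFun y := ⟨(y.1.1, y.2.1), ⟨y.1.2, y.2.2⟩⟩
  map_add' := by intros; rfl
  map_smul' := by intros; rfl
  left_inv := by intro x; rfl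
  right_inv := by intro y; rfl

theorem rk_prod [FiniteDimensional F V] [FiniteDimensional F V'] (N : V →ₗ[F] V)
    (N' : V' →ₗ[F] V') (k : ℕ) : rk (N.prodMap N') k = rk N k + rk N' k := by
  unfold rk
  rw [prodMap_pow, LinearMap.range_prodMap]
  have e : ↥((LinearMap.range (N ^ k)).prod (LinearMap.range (N' ^ k))) ≃ₗ[F]
      (↥(LinearMap.range (N ^ k)) × ↥(LinearMap.range (N' ^ k))) :=
    prodSubEquiv _ _
  rw [LinearEquiv.finrank_eq e, Module.finrank_prod]

theorem Iso.prod {V₁ : Type*} [AddCommGroup V₁] [Module F V₁] {V₁' : Type*} [AddCommGroup V₁']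
    [Module F V₁'] {B : LinearMap.BilinForm F V} {N : V →ₗ[F] V}
    {B' : LinearMap.BilinForm F V'} {N' : V' →ₗ[F] V'}
    {B₁ : LinearMap.BilinForm F V₁} {N₁ : V₁ →ₗ[F] V₁}
    {B₁' : LinearMap.BilinForm F V₁'} {N₁' : V₁' →ₗ[F] V₁'}
    (h : Iso B N B₁ N₁) (h' : Iso B' N' B₁' N₁') :
    Iso (prodB B B') (N.prodMap N') (prodB B₁ B₁') (N₁.prodMap N₁') := by
  obtain ⟨φ, h1, h2⟩ := h
  obtain ⟨ψ, h3, h4⟩ := h'
  refine ⟨LinearEquiv.prodCongr φ ψ, fun x y => ?_, fun x => ?_⟩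
  · simp [h1, h3]
  · simp [h2, h4]

/-! ### invariant nondegenerate subspaces -/

/-- `M` is `N`-invariant and `B` restricted to `M` is nondegenerate -/
structure IsGood (B : LinearMap.BilinForm F V) (N : V →ₗ[F] V) (M : Submodule F V) : Prop where
  inv : ∀ x ∈ M, N x ∈ M
  nd : ∀ x ∈ M, (∀ y ∈ M, B x y = 0) → x = 0

section good

variable {B : LinearMap.BilinForm F V} {N : V →ₗ[F] V} {M : Submodule F V}

theorem restrict_pow_apply (hM : ∀ x ∈ M, N x ∈ M) (k : ℕ) (x : M) :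
    (((N.restrict hM) ^ k) x : V) = (N ^ k) (x : V) := by
  induction k generalizing x with
  | zero => simp
  | succ k ih =>
    rw [pow_succ, Module.End.mul_apply, ih, pow_succ, Module.End.mul_apply]
    rfl

theorem IsSN.restrict (h : IsSN B N) (hM : IsGood B N M) :
    IsSN (B.restrict M) (N.restrict hM.inv) := by
  refine ⟨fun x => ?_, fun x hx => ?_, fun x y => ?_, ?_⟩
  · exact h.alt _
  · apply Subtype.ext
    exact hM.nd x x.2 (fun y hy => hx ⟨y, hy⟩)
  · exact h.skew _ _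
  · obtain ⟨k, hk⟩ := h.nil
    refine ⟨k, ?_⟩
    ext x
    rw [restrict_pow_apply, hk]
    simp

theorem mem_orth_iff (y : V) : y ∈ B.orthogonal M ↔ ∀ x ∈ M, B x y = 0 :=
  LinearMap.BilinForm.mem_orthogonal_iff

variable [FiniteDimensional F V]

theorem IsGood.isCompl (h : IsSN B N) (hM : IsGood B N M) : IsCompl M (B.orthogonal M) := by
  apply LinearMap.BilinForm.isCompl_orthogonal_of_restrict_nondegenerate
  · intro x y hxy
    rw [h.swap, hxy, neg_zero]
  · have hl : ∀ x : M, (∀ y : M, B.restrict M x y = 0) → x = 0 := by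
      intro x hx
      apply Subtype.ext
      exact hM.nd x x.2 (fun y hy => hx ⟨y, hy⟩)
    refine ⟨hl, ?_⟩
    intro y hy
    apply hl
    intro x
    have := hy x
    change B x y = 0 at this
    change B y x = 0
    rw [h.swap, this, neg_zero]

theorem IsGood.orth (h : IsSN B N) (hM : IsGood B N M) : IsGood B N (B.orthogonal M) := by
  refine ⟨fun y hy => ?_, fun y hy hy' => ?_⟩
  · rw [mem_orth_iff] at hy ⊢
    intro x hx
    have := h.skew x y
    rw [hy _ (hM.inv x hx)] at this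
    rw [← neg_eq_zero, ← this]
  · apply h.nondeg
    intro z
    have hc := (hM.isCompl h).sup_eq_top
    have hz : z ∈ M ⊔ B.orthogonal M := by rw [hc]; trivial
    obtain ⟨a, ha, b, hb, rfl⟩ := Submodule.mem_sup.1 hz
    rw [map_add, hy' b hb, add_zero, h.swap, (mem_orth_iff y).1 hy a ha, neg_zero]

/-- a triple is the orthogonal sum of its restrictions to a good subspace and its orthogonal -/
theorem split_iso (h : IsSN B N) (hM : IsGood B N M) :
    Iso (prodB (B.restrict M) (B.restrict (B.orthogonal M)))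
      ((N.restrict hM.inv).prodMap (N.restrict (hM.orth h).inv)) B N := by
  refine ⟨Submodule.prodEquivOfIsCompl M (B.orthogonal M) (hM.isCompl h), fun x y => ?_,
    fun x => ?_⟩
  · rw [Submodule.coe_prodEquivOfIsCompl', Submodule.coe_prodEquivOfIsCompl']
    simp only [map_add, LinearMap.add_apply, prodB_apply]
    have e1 : B (x.1 : V) (y.2 : V) = 0 := (mem_orth_iff _).1 y.2.2 _ x.1.2
    have e2 : B (x.2 : V) (y.1 : V) = 0 := by
      rw [h.swap, (mem_orth_iff _).1 x.2.2 _ y.1.2, neg_zero]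
    rw [e1, e2]
    simp [LinearMap.BilinForm.restrict_apply]
  · rw [Submodule.coe_prodEquivOfIsCompl', Submodule.coe_prodEquivOfIsCompl']
    simp [LinearMap.restrict_apply]

end good

end Cfsg.Agent.Lib.Helper5.SpUnip
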