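import Cfsg.Agent.Lib.Helper5.SpUnip.Basic
import Cfsg.Agent.Lib.Helper4.JordanNil

set_option autoImplicit false

/-!
# Canonical families: Jordan pattern for `N` and monomial Gram matrix for `B`
-/

namespace Cfsg.Agent.Lib.Helper5.SpUnip

open Module Cfsg.Agent.Lib.Helper4.JordanNil

variable {F : Type*} [Field F]
variable {V : Type*} [AddCommGroup V] [Module F V]
variable {V' : Type*} [AddCommGroup V'] [Module F V']

/-- Jordan pattern on a family, and monomial Gram matrix -/
structure IsCanon (B : LinearMap.BilinForm F V) (N : V →ₗ[F] V) {t : ℕ} (e : Fin t → ℕ)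
    (σ : Idx e → Idx e) (d : Idx e → F) (v : Idx e → V) : Prop where
  jf : ∀ (i : Fin t) (j : Fin (e i)),
    N (v ⟨i, j⟩) = if h : j.val + 1 < e i then v ⟨i, ⟨j.val + 1, h⟩⟩ else 0
  mg : ∀ j l, B (v j) (v l) = if l = σ j then d j else 0
  inj : Function.Injective σ
  ne : ∀ j, d j ≠ 0

section canon

variable {B : LinearMap.BilinForm F V} {N : V →ₗ[F] V} {t : ℕ} {e : Fin t → ℕ}
  {σ : Idx e → Idx e} {d : Idx e → F} {v : Idx e → V}

theorem IsCanon.coeff (hc : IsCanon B N e σ d v) (g : Idx e → F) (j₀ : Idx e) :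
    B (∑ j, g j • v j) (v (σ j₀)) = g j₀ * d j₀ := by
  rw [map_sum, LinearMap.sum_apply, Finset.sum_eq_single j₀]
  · rw [map_smul, LinearMap.smul_apply, hc.mg, if_pos rfl, smul_eq_mul]
  · intro j _ hj
    rw [map_smul, LinearMap.smul_apply, hc.mg, if_neg, smul_zero]
    intro h
    exact hj (hc.inj h).symm
  · intro h
    exact absurd (Finset.mem_univ _) h

theorem IsCanon.li (hc : IsCanon B N e σ d v) : LinearIndependent F v := by
  rw [Fintype.linearIndependent_iff]
  intro g hg j₀
  have := hc.coeff g j₀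
  rw [hg, map_zero, LinearMap.zero_apply] at this
  rcases mul_eq_zero.1 this.symm with h | h
  · exact h
  · exact absurd h (hc.ne j₀)

theorem IsCanon.good (hc : IsCanon B N e σ d v) :
    IsGood B N (Submodule.span F (Set.range v)) := by
  refine ⟨?_, ?_⟩
  · intro x hx
    have hle : Submodule.span F (Set.range v) ≤
        (Submodule.span F (Set.range v)).comap N := by
      rw [Submodule.span_le]
      rintro _ ⟨⟨i, j⟩, rfl⟩
      simp only [SetLike.mem_coe, Submodule.mem_comap]
      rw [hc.jf]
      split_ifs with h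
      · exact Submodule.subset_span ⟨_, rfl⟩
      · exact Submodule.zero_mem _
    exact hle hx
  · intro x hx hx'
    obtain ⟨g, rfl⟩ := (Submodule.mem_span_range_iff_exists_fun F).1 hx
    have : ∀ j, g j = 0 := by
      intro j₀
      have h1 := hc.coeff g j₀
      rw [hx' _ (Submodule.subset_span ⟨_, rfl⟩)] at h1
      rcases mul_eq_zero.1 h1.symm with h | h
      · exact h
      · exact absurd h (hc.ne j₀)
    simp [this]

/-- the basis of the span given by a canonical family -/
noncomputable def IsCanon.basis (hc : IsCanon B N e σ d v) :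
    Basis (Idx e) F (Submodule.span F (Set.range v)) :=
  Basis.span hc.li

theorem IsCanon.basis_apply (hc : IsCanon B N e σ d v) (j : Idx e) :
    (hc.basis j : V) = v j := congrArg Subtype.val (Basis.span_apply hc.li j)

theorem IsCanon.isJB (hc : IsCanon B N e σ d v) :
    IsJB e (N.restrict hc.good.inv) hc.basis := by
  intro i j
  apply Subtype.ext
  rw [LinearMap.coe_restrict_apply, hc.basis_apply, hc.jf]
  split_ifs with h
  · rw [hc.basis_apply]
  · rfl

theorem IsCanon.rk [FiniteDimensional F V] (hc : IsCanon B N e σ d v) (k : ℕ) :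
    rk (N.restrict hc.good.inv) k = ∑ i, (e i - k) :=
  hc.isJB.finrank_range_pow k

theorem IsCanon.iso {B' : LinearMap.BilinForm F V'} {N' : V' →ₗ[F] V'} {v' : Idx e → V'}
    (hc : IsCanon B N e σ d v) (hc' : IsCanon B' N' e σ d v') :
    Iso (B.restrict (Submodule.span F (Set.range v))) (N.restrict hc.good.inv)
      (B'.restrict (Submodule.span F (Set.range v'))) (N'.restrict hc'.good.inv) := by
  set φ := hc.basis.equiv hc'.basis (Equiv.refl _) with hφ
  have hφb : ∀ j, φ (hc.basis j) = hc'.basis j := by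
    intro j
    rw [hφ, Basis.equiv_apply]
    rfl
  refine ⟨φ, ?_, ?_⟩
  · have : (B'.restrict (Submodule.span F (Set.range v'))).compl₁₂
        (φ : _ →ₗ[F] _) (φ : _ →ₗ[F] _) = B.restrict (Submodule.span F (Set.range v)) := by
      apply LinearMap.BilinForm.ext_basis hc.basis
      intro j l
      rw [LinearMap.compl₁₂_apply]
      change (B'.restrict _) (φ (hc.basis j)) (φ (hc.basis l)) = _
      rw [hφb, hφb]
      change B' (hc'.basis j : V') (hc'.basis l : V') = B (hc.basis j : V) (hc.basis l : V)
      rw [hc.basis_apply, hc.basis_apply, hc'.basis_apply, hc'.basis_apply, hc.mg, hc'.mg]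
    intro x y
    rw [← this]
    rfl
  · have : (φ : _ →ₗ[F] _) ∘ₗ (N.restrict hc.good.inv) =
        (N'.restrict hc'.good.inv) ∘ₗ (φ : _ →ₗ[F] _) := by
      apply hc.basis.ext
      rintro ⟨i, j⟩
      change φ ((N.restrict hc.good.inv) (hc.basis ⟨i, j⟩)) =
        (N'.restrict hc'.good.inv) (φ (hc.basis ⟨i, j⟩))
      rw [hφb, hc.isJB i j, hc'.isJB i j]
      split_ifs with h
      · rw [hφb]
      · rw [map_zero]
    intro x
    exact LinearMap.congr_fun this x

end canon

end Cfsg.Agent.Lib.Helper5.SpUnip
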