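import Cfsg.Agent.Lib.Helper5.SpUnip.CayRing
import Cfsg.Agent.Lib.Helper5.SpUnip.Basic
import Cfsg.Agent.Lib.Helper5.AltRep
import Cfsg.Agent.Lib.Helper5.AltForm
import Cfsg.Agent.Lib.Helper5.SympBridge

set_option autoImplicit false

/-!
# The Cayley transform between unipotent symplectic matrices and skew-adjoint nilpotent maps
-/

namespace Cfsg.Agent.Lib.Helper5.SpUnip

open Module Matrix Cfsg Cfsg.Agent.Lib.Helper5.SympBridge Cfsg.Agent.Lib.Helper5.AltRep
  Cfsg.Agent.Lib.Helper5.AltForm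

universe u

variable {F : Type*} [Field F] {m : ℕ}

/-- the linear map of a symplectic matrix -/
noncomputable def tau (g : symplecticGroup (Fin m) F) : Module.End F (Fin m ⊕ Fin m → F) :=
  Matrix.toLin' (g : Matrix (Fin m ⊕ Fin m) (Fin m ⊕ Fin m) F)

theorem tau_apply (g : symplecticGroup (Fin m) F) (v : Fin m ⊕ Fin m → F) :
    tau g v = (g : Matrix (Fin m ⊕ Fin m) (Fin m ⊕ Fin m) F) *ᵥ v := Matrix.toLin'_apply _ _

theorem tau_mul (g h : symplecticGroup (Fin m) F) : tau (g * h) = tau g * tau h := by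
  unfold tau
  rw [Module.End.mul_eq_comp, ← Matrix.toLin'_mul]
  rfl

theorem tau_one : tau (1 : symplecticGroup (Fin m) F) = 1 := by
  unfold tau
  rw [Module.End.one_eq_id, ← Matrix.toLin'_one]
  rfl

theorem tau_injective : Function.Injective (tau (F := F) (m := m)) := by
  intro g h hgh
  apply Subtype.ext
  exact Matrix.toLin'.injective hgh

theorem tau_pow (g : symplecticGroup (Fin m) F) (k : ℕ) : tau (g ^ k) = tau g ^ k := by
  induction k with
  | zero => rw [pow_zero, pow_zero, tau_one]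
  | succ k ih => rw [pow_succ, pow_succ, tau_mul, ih]

theorem tau_mul_inv (g : symplecticGroup (Fin m) F) : tau g * tau g⁻¹ = 1 := by
  rw [← tau_mul, mul_inv_cancel, tau_one]

theorem tau_inv_mul (g : symplecticGroup (Fin m) F) : tau g⁻¹ * tau g = 1 := by
  rw [← tau_mul, inv_mul_cancel, tau_one]

theorem tau_isometry (g : symplecticGroup (Fin m) F) (u v : Fin m ⊕ Fin m → F) :
    sympBilin F m (tau g u) (tau g v) = sympBilin F m u v := by
  rw [sympBilin_apply, sympBilin_apply, tau_apply, tau_apply]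
  exact (mem_symplectic_iff m _).1 g.2 u v

/-- the nilpotent map attached to a symplectic matrix -/
noncomputable def cayN (g : symplecticGroup (Fin m) F) : Module.End F (Fin m ⊕ Fin m → F) :=
  cay (tau g)

section charp

variable {p : ℕ} [Fact p.Prime] [CharP F p]

theorem isUnit_tau_add_one (h2 : (2 : F) ≠ 0) {g : symplecticGroup (Fin m) F} (hg : g ^ p = 1) :
    IsUnit (tau g + 1) := by
  apply isUnit_add_one_of_nilpotent h2
  refine ⟨p, ?_⟩
  rw [sub_one_pow_char (F := F), ← tau_pow, hg, tau_one, sub_self]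

theorem cayN_pow (h2 : (2 : F) ≠ 0) {g : symplecticGroup (Fin m) F} (hg : g ^ p = 1) :
    cayN g ^ p = 0 := by
  apply cay_pow_eq_zero (isUnit_tau_add_one h2 hg)
  rw [sub_one_pow_char (F := F), ← tau_pow, hg, tau_one, sub_self]

theorem cayN_isSN (h2 : (2 : F) ≠ 0) {g : symplecticGroup (Fin m) F} (hg : g ^ p = 1) :
    IsSN (sympBilin F m) (cayN g) := by
  have hu := isUnit_tau_add_one h2 hg
  refine ⟨sympBilin_isAlt m, (sympBilin_nondegenerate m).1, fun x y => ?_, ⟨p, cayN_pow h2 hg⟩⟩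
  have hrel : cayN g * (tau g + 1) = tau g - 1 := cay_rel hu
  have hsurj := ((Module.End.isUnit_iff _).1 hu).2
  obtain ⟨x', rfl⟩ := hsurj x
  obtain ⟨y', rfl⟩ := hsurj y
  have e1 : ∀ z, cayN g ((tau g + 1) z) = (tau g - 1) z := by
    intro z
    rw [← Module.End.mul_apply, hrel]
  rw [e1, e1]
  simp only [LinearMap.add_apply, LinearMap.sub_apply, Module.End.one_apply, map_add, map_sub,
    tau_isometry]
  ring

theorem cayN_eq_zero_iff (h2 : (2 : F) ≠ 0) {g : symplecticGroup (Fin m) F} (hg : g ^ p = 1) :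
    cayN g = 0 ↔ g = 1 := by
  unfold cayN
  rw [cay_eq_zero_iff (isUnit_tau_add_one h2 hg), ← tau_one]
  exact tau_injective.eq_iff

theorem cayN_conj (h2 : (2 : F) ≠ 0) {g : symplecticGroup (Fin m) F} (hg : g ^ p = 1)
    (c : symplecticGroup (Fin m) F) : cayN (c * g * c⁻¹) = tau c * cayN g * tau c⁻¹ := by
  have hg' : (c * g * c⁻¹) ^ p = 1 := by
    rw [conj_pow, hg, mul_one, mul_inv_cancel]
  have h1 := cayRel_conj (tau_mul_inv c) (tau_inv_mul c) (cay_rel (isUnit_tau_add_one h2 hg))
  rw [← tau_mul, ← tau_mul] at h1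
  exact cayRel_unique (isUnit_tau_add_one h2 hg') (cay_rel (isUnit_tau_add_one h2 hg')) h1

theorem iso_of_isConj (h2 : (2 : F) ≠ 0) {g g' : symplecticGroup (Fin m) F} (hg : g ^ p = 1)
    (hc : IsConj g g') : Iso (sympBilin F m) (cayN g) (sympBilin F m) (cayN g') := by
  obtain ⟨c, rfl⟩ := isConj_iff.1 hc
  refine ⟨LinearEquiv.ofLinearMap (tau c) (tau c⁻¹) (tau_mul_inv c) (tau_inv_mul c), fun x y => ?_,
    fun x => ?_⟩
  · exact tau_isometry c x y
  · change tau c (cayN g x) = cayN (c * g * c⁻¹) (tau c x)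
    rw [cayN_conj h2 hg, Module.End.mul_apply, Module.End.mul_apply, ← Module.End.mul_apply (tau c⁻¹),
      tau_inv_mul, Module.End.one_apply]

theorem isConj_of_iso (h2 : (2 : F) ≠ 0) {g g' : symplecticGroup (Fin m) F} (hg : g ^ p = 1)
    (hg' : g' ^ p = 1)
    (hi : Iso (sympBilin F m) (cayN g) (sympBilin F m) (cayN g')) : IsConj g g' := by
  obtain ⟨φ, h1, h3⟩ := hi
  obtain ⟨A, hA⟩ := exists_symplectic_of_isometry m φ (fun u v => h1 u v)
  have hτ : ∀ v, tau A v = φ v := fun v => by rw [tau_apply, hA]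
  have e1 : tau A * cayN g = cayN g' * tau A := by
    apply LinearMap.ext
    intro v
    rw [Module.End.mul_apply, Module.End.mul_apply, hτ, hτ, h3]
  have e2 : cayN (A * g * A⁻¹) = cayN g' := by
    rw [cayN_conj h2 hg, e1, mul_assoc, tau_mul_inv, mul_one]
  have hgA : (A * g * A⁻¹) ^ p = 1 := by
    rw [conj_pow, hg, mul_one, mul_inv_cancel]
  have r1 : CayRel (tau (A * g * A⁻¹)) (cayN g') := by
    rw [← e2]
    exact cay_rel (isUnit_tau_add_one h2 hgA)
  have r2 : CayRel (tau g') (cayN g') := cay_rel (isUnit_tau_add_one h2 hg')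
  have e3 := cayRel_inj ⟨p, cayN_pow h2 hg'⟩ r1 r2
  rw [isConj_iff]
  exact ⟨A, tau_injective e3⟩

theorem exists_of_isSN (h2 : (2 : F) ≠ 0) {N : Module.End F (Fin m ⊕ Fin m → F)}
    (h : IsSN (sympBilin F m) N) (hN : N ^ p = 0) :
    ∃ g : symplecticGroup (Fin m) F, g ^ p = 1 ∧ cayN g = N := by
  obtain ⟨a, hrel, ha, hpow⟩ := exists_of_nilpotent h.nil
  have hap : a ^ p = 1 := by
    have := hpow p hN
    rw [sub_one_pow_char (F := F), sub_eq_zero] at this
    exact this
  have hua : IsUnit a := by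
    have : IsNilpotent (a - 1) := ⟨p, hpow p hN⟩
    have := this.isUnit_one_add
    rwa [add_sub_cancel] at this
  have hbij := (Module.End.isUnit_iff _).1 hua
  have hsurj := ((Module.End.isUnit_iff _).1 h.nil.isUnit_one_sub).2
  have hiso : ∀ u v, sympBilin F m (a u) (a v) = sympBilin F m u v := by
    intro u v
    obtain ⟨u', rfl⟩ := hsurj u
    obtain ⟨v', rfl⟩ := hsurj v
    have e1 : ∀ z, a ((1 - N) z) = (1 + N) z := by
      intro z
      rw [← Module.End.mul_apply, ha]
    rw [e1, e1]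
    simp only [LinearMap.add_apply, LinearMap.sub_apply, Module.End.one_apply, map_add, map_sub,
      h.skew]
    ring
  obtain ⟨g, hg⟩ := exists_symplectic_of_isometry m (LinearEquiv.ofBijective a hbij)
    (fun u v => hiso u v)
  have hτ : tau g = a := by
    apply LinearMap.ext
    intro v
    rw [tau_apply, hg]
    rfl
  have hgp : g ^ p = 1 := by
    apply tau_injective
    rw [tau_pow, hτ, hap, tau_one]
  refine ⟨g, hgp, ?_⟩
  have r1 : CayRel (tau g) N := by rw [hτ]; exact hrel
  exact cayRel_unique (isUnit_tau_add_one h2 hgp) (cay_rel (isUnit_tau_add_one h2 hgp)) r1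

end charp

/-- a nondegenerate alternating space of dimension `2n` is isometric to the standard one -/
theorem exists_std_isometry {V : Type u} [AddCommGroup V] [Module F V] [FiniteDimensional F V]
    (B : LinearMap.BilinForm F V) (hA : B.IsAlt) (hnd : ∀ x, (∀ y, B x y = 0) → x = 0) (n : ℕ)
    (hn : finrank F V = 2 * n) :
    ∃ φ : V ≃ₗ[F] (Fin n ⊕ Fin n → F), ∀ x y, sympBilin F n (φ x) (φ y) = B x y := by
  have hA' : (-B).IsAlt := fun x => by
    rw [LinearMap.neg_apply, LinearMap.neg_apply, hA, neg_zero]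
  obtain ⟨m, k, b, h1, h2, h3, h4, hdim, hk⟩ := exists_darboux_basis (-B) hA'
  have hk0 : k = 0 := by
    by_contra hk0
    have hpos : 0 < k := Nat.pos_of_ne_zero hk0
    have := hnd (b (Sum.inr ⟨0, hpos⟩)) (fun y => by
      have := h4 ⟨0, hpos⟩ y
      rw [LinearMap.neg_apply, LinearMap.neg_apply, neg_eq_zero] at this
      exact this)
    exact b.ne_zero _ this
  have hmn : m = n := by omega
  subst hmn
  have hinj : Function.Injective (hyp b) := by
    rw [← LinearMap.ker_eq_bot, Submodule.eq_bot_iff]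
    intro v hv
    apply hnd
    intro w
    have := radical_of_hyp_eq_zero b (-B) h1 h2 h3 h4 hA' v (LinearMap.mem_ker.mp hv) w
    rw [LinearMap.neg_apply, LinearMap.neg_apply, neg_eq_zero] at this
    exact this
  have hsurj : Function.Surjective (hyp b) := fun y => ⟨sec b y, hyp_sec b y⟩
  refine ⟨LinearEquiv.ofBijective (hyp b) ⟨hinj, hsurj⟩, fun x y => ?_⟩
  have f1 := form_eq b (-B) h1 h2 h3 h4 hA' x y
  rw [LinearMap.neg_apply, LinearMap.neg_apply] at f1
  rw [sympBilin_apply]
  exact (neg_injective f1).symm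

end Cfsg.Agent.Lib.Helper5.SpUnip
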