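import Cfsg.Agent.Lib.Helper5.SpUnip.PeelOdd

set_option autoImplicit false

/-!
# Odd parts have even multiplicity
-/

namespace Cfsg.Agent.Lib.Helper5.SpUnip

open Module Cfsg.Agent.Lib.Helper4.JordanNil

universe u

variable {F : Type*} [Field F]

theorem rk_split {V : Type*} [AddCommGroup V] [Module F V] [FiniteDimensional F V]
    {B : LinearMap.BilinForm F V} {N : V →ₗ[F] V} (h : IsSN B N) {t : ℕ} {e : Fin t → ℕ}
    {σ : Idx e → Idx e} {d : Idx e → F} {v : Idx e → V} (hc : IsCanon B N e σ d v) (k : ℕ) :
    rk N k = ∑ s, (e s - k) + rk (N.restrict (hc.good.orth h).inv) k := by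
  rw [← rk_iso (split_iso h hc.good) k, rk_prod, hc.rk]

theorem exists_index' {V : Type*} [AddCommGroup V] [Module F V] [FiniteDimensional F V]
    {N : V →ₗ[F] V} (hnil : IsNilpotent N) (hV : 0 < finrank F V) :
    ∃ i, 1 ≤ i ∧ N ^ i = 0 ∧ N ^ (i - 1) ≠ 0 := by
  classical
  have hi := Nat.find_spec hnil
  have hmin := fun m => Nat.find_min (m := m) hnil
  set i := Nat.find hnil with hidef
  have hi1 : 1 ≤ i := by
    rcases Nat.eq_zero_or_pos i with h0 | h0
    · exfalso
      rw [h0, pow_zero] at hi
      have : Nontrivial V := Module.finrank_pos_iff.1 hV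
      obtain ⟨x, hx⟩ := exists_ne (0 : V)
      apply hx
      have := LinearMap.congr_fun hi x
      simpa using this
    · exact h0
  exact ⟨i, hi1, hi, hmin (i - 1) (by omega)⟩

theorem rk_parity (h2 : (2 : F) ≠ 0) :
    ∀ (n : ℕ) (V : Type u) [AddCommGroup V] [Module F V] [FiniteDimensional F V]
      (B : LinearMap.BilinForm F V) (N : V →ₗ[F] V), IsSN B N → finrank F V = n →
      ∀ k, Even k → Even (rk N k + rk N (k + 2)) := by
  intro n
  induction n using Nat.strong_induction_on with
  | _ n IH =>
    intro V _ _ _ B N h hn k hk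
    by_cases hn0 : n = 0
    · have e1 : ∀ j, rk N j = 0 := by
        intro j
        have := Submodule.finrank_le (LinearMap.range (N ^ j))
        unfold rk
        omega
      rw [e1, e1]
      exact ⟨0, rfl⟩
    · have hV : 0 < finrank F V := by omega
      obtain ⟨i, hi1, hNi, hNi1⟩ := exists_index' h.nil hV
      rcases Nat.even_or_odd i with hev | hod
      · have htop : Odd (i - 1) := by
          obtain ⟨s, hs⟩ := hev
          exact ⟨s - 1, by omega⟩
        obtain ⟨x, hx⟩ := exists_top_ne_zero h h2 htop hNi1
        obtain ⟨v, hv⟩ := peel_even h h2 hev hNi hx x rfl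
        have r1 := rk_split h hv
        have hpos : finrank F ↥(B.orthogonal (Submodule.span F (Set.range v))) < n := by
          have := r1 0
          rw [rk_zero, rk_zero] at this
          simp only [evE, Finset.sum_const, Finset.card_univ, Fintype.card_fin, smul_eq_mul,
            Nat.sub_zero] at this
          omega
        have ih := IH _ hpos _ _ _ (h.restrict (hv.good.orth h)) rfl k hk
        rw [r1 k, r1 (k + 2)]
        simp only [evE, Finset.sum_const, Finset.card_univ, Fintype.card_fin, smul_eq_mul]
        rw [Nat.even_iff] at ih hk hev ⊢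
        omega
      · obtain ⟨v, hv⟩ := peel_odd h h2 hod hNi hNi1
        have r1 := rk_split h hv
        have hpos : finrank F ↥(B.orthogonal (Submodule.span F (Set.range v))) < n := by
          have := r1 0
          rw [rk_zero, rk_zero] at this
          simp only [odE, Finset.sum_const, Finset.card_univ, Fintype.card_fin, smul_eq_mul,
            Nat.sub_zero] at this
          omega
        have ih := IH _ hpos _ _ _ (h.restrict (hv.good.orth h)) rfl k hk
        rw [r1 k, r1 (k + 2)]
        simp only [odE, Finset.sum_const, Finset.card_univ, Fintype.card_fin, smul_eq_mul]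
        rw [Nat.even_iff] at ih ⊢
        omega

end Cfsg.Agent.Lib.Helper5.SpUnip
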