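import Cfsg.Agent.Lib.Helper5.SpUnip.PeelEven

set_option autoImplicit false

/-!
# Peeling a pair of Jordan blocks of odd size
-/

namespace Cfsg.Agent.Lib.Helper5.SpUnip

open Module Cfsg.Agent.Lib.Helper4.JordanNil

variable {F : Type*} [Field F]
variable {V : Type*} [AddCommGroup V] [Module F V]
variable {B : LinearMap.BilinForm F V} {N : V →ₗ[F] V}

theorem odd_step (h : IsSN B N) {r l : ℕ} (hr : Odd r) (hl : Odd l) (a : F) (x y : V) :
    B (x + a • (N ^ r) y) ((N ^ l) (x + a • (N ^ r) y)) =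
      B x ((N ^ l) x) + 2 * a * B x ((N ^ (r + l)) y) -
        a ^ 2 * B y ((N ^ (r + (l + r))) y) := by
  have e1 : (N ^ l) (x + a • (N ^ r) y) = (N ^ l) x + a • (N ^ (l + r)) y := by
    rw [map_add, map_smul, pow_add, Module.End.mul_apply]
  have e2 : B ((N ^ r) y) ((N ^ l) x) = B x ((N ^ (r + l)) y) := by
    rw [h.pow_pow, hr.neg_one_pow, h.skew_pow' (r + l) y x, (hr.add_odd hl).neg_one_pow,
      h.swap ((N ^ (r + l)) y) x]
    ring
  have e3 : B ((N ^ r) y) ((N ^ (l + r)) y) = - B y ((N ^ (r + (l + r))) y) := by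
    rw [h.pow_pow, hr.neg_one_pow]
    ring
  have e4 : (N ^ (l + r)) y = (N ^ (r + l)) y := by rw [add_comm]
  rw [e1]
  simp only [map_add, map_smul, LinearMap.add_apply, LinearMap.smul_apply, smul_eq_mul, e2, e3]
  rw [e4]
  ring

theorem top_step (h : IsSN B N) {i : ℕ} (hNi : N ^ i = 0) {r : ℕ} (hr : 1 ≤ r) (a : F)
    (x y : V) : B (x + a • (N ^ r) y) ((N ^ (i - 1)) y) = B x ((N ^ (i - 1)) y) := by
  have g : i ≤ r + (i - 1) := by omega
  rw [map_add, LinearMap.add_apply, map_smul, LinearMap.smul_apply, h.pow_pow,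
    pow_apply_eq_zero hNi g]
  simp

/-- making `Z(x)` totally isotropic -/
theorem exists_isotropic (h : IsSN B N) (h2 : (2 : F) ≠ 0) {i : ℕ} (hi : Odd i)
    (hNi : N ^ i = 0) {γ : F} (hγ : γ ≠ 0) (x y : V) (hx : B x ((N ^ (i - 1)) y) = γ) :
    ∃ x₁, B x₁ ((N ^ (i - 1)) y) = γ ∧ ∀ l, B x₁ ((N ^ l) x₁) = 0 := by
  have htop : Even (i - 1) := by
    obtain ⟨s, hs⟩ := hi
    exact ⟨s, by omega⟩
  let S := {x : V // B x ((N ^ (i - 1)) y) = γ}
  obtain ⟨s', h1, h3⟩ := elim_desc (S := S) (fun s l => B s.1 ((N ^ l) s.1)) (i - 1) (by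
    intro s l hl
    by_cases hle : Even l
    · exact ⟨s, h.self_pow_of_even hle _, fun _ _ => rfl⟩
    · rw [Nat.not_even_iff_odd] at hle
      have hr : Odd (i - 1 - l) := Nat.Even.sub_odd hl.le htop hle
      set r := i - 1 - l with hrdef
      have hr1 : 1 ≤ r := by omega
      set a : F := - B s.1 ((N ^ l) s.1) / (2 * γ) with ha
      have key : ∀ l', l < l' → B (s.1 + a • (N ^ r) y) ((N ^ l') (s.1 + a • (N ^ r) y)) =
          B s.1 ((N ^ l') s.1) := by
        intro l' hl'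
        by_cases hle' : Even l'
        · rw [h.self_pow_of_even hle', h.self_pow_of_even hle']
        · rw [Nat.not_even_iff_odd] at hle'
          have g1 : i ≤ r + l' := by omega
          have g2 : i ≤ r + (l' + r) := by omega
          rw [odd_step h hr hle', pow_apply_eq_zero hNi g1, pow_apply_eq_zero hNi g2]
          simp
      refine ⟨⟨s.1 + a • (N ^ r) y, ?_⟩, ?_, key⟩
      · rw [top_step h hNi hr1]
        exact s.2
      · change B (s.1 + a • (N ^ r) y) ((N ^ l) (s.1 + a • (N ^ r) y)) = 0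
        have g2 : i ≤ r + (l + r) := by omega
        rw [odd_step h hr hle, pow_apply_eq_zero hNi g2]
        have e5 : r + l = i - 1 := by omega
        rw [e5, s.2, ha]
        field_simp
        simp) ⟨x, hx⟩
  refine ⟨s'.1, s'.2, fun l => ?_⟩
  rcases Nat.lt_or_ge l (i - 1) with hl | hl
  · exact h1 l hl
  · rcases Nat.eq_or_lt_of_le hl with hl' | hl'
    · rw [← hl']
      exact h.self_pow_of_even htop _
    · have g : i ≤ l := by omega
      rw [pow_apply_eq_zero hNi g s'.1, map_zero]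

theorem iso_step (h : IsSN B N) (y : V) (hy : ∀ l, B y ((N ^ l) y) = 0) (a : F) (r l : ℕ) :
    B (y + a • (N ^ r) y) ((N ^ l) (y + a • (N ^ r) y)) = 0 := by
  have e1 : (N ^ l) (y + a • (N ^ r) y) = (N ^ l) y + a • (N ^ (l + r)) y := by
    rw [map_add, map_smul, pow_add, Module.End.mul_apply]
  rw [e1]
  simp only [map_add, map_smul, LinearMap.add_apply, LinearMap.smul_apply, smul_eq_mul,
    h.pow_pow, hy]
  simp

theorem cross_step (a : F) (x y : V) (r l : ℕ) :
    B x ((N ^ l) (y + a • (N ^ r) y)) = B x ((N ^ l) y) + a * B x ((N ^ (l + r)) y) := by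
  rw [map_add, map_smul, pow_add, Module.End.mul_apply, map_add, map_smul, smul_eq_mul]

/-- normalising the pairing between two isotropic cyclic subspaces -/
theorem exists_cross_normal (h : IsSN B N) {i : ℕ} (hNi : N ^ i = 0) {γ : F} (hγ : γ ≠ 0)
    (x y : V) (hy : ∀ l, B y ((N ^ l) y) = 0) (hx : B x ((N ^ (i - 1)) y) = γ) :
    ∃ y₂, (∀ l, B y₂ ((N ^ l) y₂) = 0) ∧ B x ((N ^ (i - 1)) y₂) = γ ∧
      ∀ l, l < i - 1 → B x ((N ^ l) y₂) = 0 := by
  let S := {y : V // (∀ l, B y ((N ^ l) y) = 0) ∧ B x ((N ^ (i - 1)) y) = γ}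
  obtain ⟨s', h1, h3⟩ := elim_desc (S := S) (fun s l => B x ((N ^ l) s.1)) (i - 1) (by
    intro s l hl
    set r := i - 1 - l with hrdef
    set a : F := - B x ((N ^ l) s.1) / γ with ha
    have key : ∀ l', l < l' → B x ((N ^ l') (s.1 + a • (N ^ r) s.1)) = B x ((N ^ l') s.1) := by
      intro l' hl'
      have g1 : i ≤ l' + r := by omega
      rw [cross_step, pow_apply_eq_zero hNi g1]
      simp
    refine ⟨⟨s.1 + a • (N ^ r) s.1, fun l'' => iso_step h _ s.2.1 _ _ _, ?_⟩, ?_, key⟩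
    · rw [key _ hl]
      exact s.2.2
    · change B x ((N ^ l) (s.1 + a • (N ^ r) s.1)) = 0
      have e5 : l + r = i - 1 := by omega
      rw [cross_step, e5, s.2.2, ha]
      field_simp
      simp) ⟨y, hy, hx⟩
  exact ⟨s'.1, s'.2.1, s'.2.2, h1⟩

/-! ### the canonical family of an odd pair -/

/-- block sizes -/
def odE (i : ℕ) : Fin 2 → ℕ := fun _ => i

/-- the pairing of indices -/
def odσ (i : ℕ) : Idx (odE i) → Idx (odE i) :=
  fun j => ⟨Fin.rev j.1, ⟨i - 1 - j.2.val, by have : j.2.val < i := j.2.2; change _ < i; omega⟩⟩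

/-- the Gram constants -/
def odd' (F : Type*) [Field F] (i : ℕ) : Idx (odE i) → F :=
  fun j => (-1) ^ j.2.val * (if j.1 = 0 then 1 else -1)

/-- the family -/
def odv (i : ℕ) (N : V →ₗ[F] V) (x y : V) : Idx (odE i) → V :=
  fun j => (N ^ j.2.val) (if j.1 = 0 then x else y)

theorem odd_canon (h : IsSN B N) {i : ℕ} (hi : Odd i) (hNi : N ^ i = 0) (x y : V)
    (hxx : ∀ l, B x ((N ^ l) x) = 0) (hyy : ∀ l, B y ((N ^ l) y) = 0)
    (hx : B x ((N ^ (i - 1)) y) = 1) (hn : ∀ l, l < i - 1 → B x ((N ^ l) y) = 0) :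
    IsCanon B N (odE i) (odσ i) (odd' F i) (odv i N x y) := by
  have htop : Even (i - 1) := by
    obtain ⟨s, hs⟩ := hi
    exact ⟨s, by omega⟩
  have hxy : ∀ l, B x ((N ^ l) y) = if l = i - 1 then 1 else 0 := by
    intro l
    split_ifs with hl
    · rw [hl, hx]
    · rcases Nat.lt_or_ge l (i - 1) with hlt | hge
      · exact hn l hlt
      · rw [pow_apply_eq_zero hNi (by omega), map_zero]
  have hyx : ∀ l, B y ((N ^ l) x) = if l = i - 1 then -1 else 0 := by
    intro l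
    rw [h.skew_pow', h.swap, hxy]
    split_ifs with hl
    · rw [hl, htop.neg_one_pow]; ring
    · ring
  refine ⟨?_, ?_, ?_, ?_⟩
  · intro s j
    have hj : j.val < i := j.2
    obtain ⟨w, hw⟩ : ∃ w, ∀ a : Fin (odE i s), odv i N x y ⟨s, a⟩ = (N ^ a.val) w :=
      ⟨if s = 0 then x else y, fun a => rfl⟩
    rw [hw]
    by_cases hlt : j.val + 1 < odE i s
    · rw [dif_pos hlt, hw]
      change N ((N ^ j.val) w) = (N ^ (j.val + 1)) w
      rw [pow_succ', Module.End.mul_apply]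
    · rw [dif_neg hlt, ← Module.End.mul_apply, ← pow_succ']
      apply pow_apply_eq_zero hNi
      change ¬ (j.val + 1 < i) at hlt
      omega
  · rintro ⟨s, a⟩ ⟨s', b⟩
    have ha : a.val < i := a.2
    have hb : b.val < i := b.2
    change B ((N ^ a.val) (if s = 0 then x else y)) ((N ^ b.val) (if s' = 0 then x else y)) =
      if (⟨s', b⟩ : Idx (odE i)) = ⟨Fin.rev s, ⟨i - 1 - a.val, _⟩⟩ then
        (-1) ^ a.val * (if s = 0 then 1 else -1) else 0
    rw [h.pow_pow]
    have hiff : ((⟨s', b⟩ : Idx (odE i)) = ⟨Fin.rev s, ⟨i - 1 - a.val, by change _ < i; omega⟩⟩) ↔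
        (s' = Fin.rev s ∧ a.val + b.val = i - 1) := by
      constructor
      · intro heq
        have e1 := congrArg (fun z : Idx (odE i) => z.1) heq
        have e2 := congrArg (fun z : Idx (odE i) => z.2.val) heq
        change s' = Fin.rev s at e1
        change b.val = i - 1 - a.val at e2
        exact ⟨e1, by omega⟩
      · rintro ⟨e1, e2⟩
        subst e1
        have hb' : b = ⟨i - 1 - a.val, by change _ < i; omega⟩ :=
          Fin.ext (by change b.val = i - 1 - a.val; omega)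
        rw [hb']
    rw [if_congr hiff rfl rfl]
    fin_cases s <;> fin_cases s'
    · simp [hxx]
    · simp [hxy]
    · simp [hyx]
    · simp [hyy]
  · rintro ⟨s, a⟩ ⟨s', b⟩ hab
    have ha : a.val < i := a.2
    have hb : b.val < i := b.2
    have e1 := congrArg (fun z : Idx (odE i) => z.1) hab
    have e2 := congrArg (fun z : Idx (odE i) => z.2.val) hab
    change Fin.rev s = Fin.rev s' at e1
    change i - 1 - a.val = i - 1 - b.val at e2
    have e3 : s = s' := Fin.rev_injective e1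
    subst e3
    have hab' : a = b := Fin.ext (by omega)
    rw [hab']
  · intro j
    apply mul_ne_zero (pow_ne_zero _ (by simp))
    split_ifs <;> simp

/-- peeling an odd pair -/
theorem peel_odd (h : IsSN B N) (h2 : (2 : F) ≠ 0) {i : ℕ} (hi : Odd i)
    (hNi : N ^ i = 0) (hN : N ^ (i - 1) ≠ 0) :
    ∃ v, IsCanon B N (odE i) (odσ i) (odd' F i) v := by
  have h1 : ∃ y, (N ^ (i - 1)) y ≠ 0 := by
    by_contra hcon
    push Not at hcon
    apply hN
    ext y
    exact hcon y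
  obtain ⟨y₀, hy₀⟩ := h1
  have h3 : ∃ x, B x ((N ^ (i - 1)) y₀) ≠ 0 := by
    by_contra hcon
    push Not at hcon
    exact hy₀ (h.nondeg_right _ hcon)
  obtain ⟨x₀, hx₀⟩ := h3
  set γ := B x₀ ((N ^ (i - 1)) y₀) with hγ
  have htop : Even (i - 1) := by
    obtain ⟨s, hs⟩ := hi
    exact ⟨s, by omega⟩
  have e0 : B x₀ ((N ^ (i - 1)) (γ⁻¹ • y₀)) = 1 := by
    rw [map_smul, map_smul, smul_eq_mul, ← hγ, inv_mul_cancel₀ hx₀]
  obtain ⟨x₁, hx₁, hx₁'⟩ := exists_isotropic h h2 hi hNi one_ne_zero x₀ (γ⁻¹ • y₀) e0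
  have e1 : B (γ⁻¹ • y₀) ((N ^ (i - 1)) x₁) = -1 := by
    rw [h.skew_pow', h.swap, hx₁, htop.neg_one_pow]
    ring
  obtain ⟨y₁, hy₁, hy₁'⟩ := exists_isotropic h h2 hi hNi (by simp) (γ⁻¹ • y₀) x₁ e1
  have e2 : B x₁ ((N ^ (i - 1)) y₁) = 1 := by
    rw [h.skew_pow', h.swap, hy₁, htop.neg_one_pow]
    ring
  obtain ⟨y₂, hy₂, hy₂', hy₂''⟩ := exists_cross_normal h hNi one_ne_zero x₁ y₁ hy₁' e2
  exact ⟨_, odd_canon h hi hNi x₁ y₂ hx₁' hy₂ hy₂' hy₂''⟩

end Cfsg.Agent.Lib.Helper5.SpUnip
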