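import Cfsg.Agent.Lib.Helper5.SpUnip.Rep
import Cfsg.Agent.Lib.Helper5.SpUnip.PeelOdd

set_option autoImplicit false

/-!
# Uniqueness: the ranks and the signs determine the triple
-/

namespace Cfsg.Agent.Lib.Helper5.SpUnip

open Module Cfsg.Agent.Lib.Helper4.JordanNil

universe u

variable {F : Type*} [Field F]

/-- `k` is a part of the Jordan type of `N` -/
def IsPart {V : Type*} [AddCommGroup V] [Module F V] (N : V →ₗ[F] V) (k : ℕ) : Prop :=
  1 ≤ k ∧ 2 * rk N k < rk N (k - 1) + rk N (k + 1)

/-- the two triples have the same sign at `k` -/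
def SameSgn {V : Type*} [AddCommGroup V] [Module F V] {V' : Type*} [AddCommGroup V']
    [Module F V'] (B : LinearMap.BilinForm F V) (N : V →ₗ[F] V)
    (B' : LinearMap.BilinForm F V') (N' : V' →ₗ[F] V') (k : ℕ) : Prop :=
  ∃ d d', Disc B N k d ∧ Disc B' N' k d' ∧ IsSquare (d * d')

theorem isSquare_of_sq_mul {z a b : F} (hz : z ≠ 0) (h : IsSquare (z * a * (z * b))) :
    IsSquare (a * b) := by
  obtain ⟨s, hs⟩ := h
  refine ⟨s / z, ?_⟩
  field_simp
  linear_combination hs

section transfer

variable {V : Type*} [AddCommGroup V] [Module F V] [FiniteDimensional F V]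
variable {V' : Type*} [AddCommGroup V'] [Module F V'] [FiniteDimensional F V']
variable {P : Type*} [AddCommGroup P] [Module F P] [FiniteDimensional F P]
variable {P' : Type*} [AddCommGroup P'] [Module F P'] [FiniteDimensional F P']
variable {Q : Type*} [AddCommGroup Q] [Module F Q] [FiniteDimensional F Q]
variable {Q' : Type*} [AddCommGroup Q'] [Module F Q'] [FiniteDimensional F Q']

omit [FiniteDimensional F V] [FiniteDimensional F V'] [FiniteDimensional F P'] in
theorem sameSgn_of_prod {B : LinearMap.BilinForm F V} {N : V →ₗ[F] V}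
    {B' : LinearMap.BilinForm F V'} {N' : V' →ₗ[F] V'}
    {BP : LinearMap.BilinForm F P} {NP : P →ₗ[F] P}
    {BP' : LinearMap.BilinForm F P'} {NP' : P' →ₗ[F] P'}
    {BQ : LinearMap.BilinForm F Q} {NQ : Q →ₗ[F] Q}
    {BQ' : LinearMap.BilinForm F Q'} {NQ' : Q' →ₗ[F] Q'}
    (h : IsSN B N) (h' : IsSN B' N') (hP : IsSN BP NP) (hQ : IsSN BQ NQ) (hQ' : IsSN BQ' NQ')
    (iso1 : Iso (prodB BP BQ) (NP.prodMap NQ) B N)
    (iso1' : Iso (prodB BP' BQ') (NP'.prodMap NQ') B' N')
    (isoP : Iso BP NP BP' NP') {k : ℕ} (hs : SameSgn B N B' N' k) :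
    SameSgn BQ NQ BQ' NQ' k := by
  obtain ⟨z, hz⟩ := disc_exists hP k
  obtain ⟨a, ha⟩ := disc_exists hQ k
  obtain ⟨b, hb⟩ := disc_exists hQ' k
  have DX : Disc B N k (z * a) := disc_iso iso1 (disc_prod hz ha)
  have DY : Disc B' N' k (z * b) := disc_iso iso1' (disc_prod (disc_iso isoP hz) hb)
  obtain ⟨d, d', hd, hd', hsq⟩ := hs
  have u1 : IsSquare (z * a * d) := disc_unique h DX hd
  have u2 : IsSquare (d' * (z * b)) := disc_unique h' hd' DY
  have u3 : IsSquare (z * a * d') := isSquare_trans hd.ne_zero u1 hsq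
  have u4 : IsSquare (z * a * (z * b)) := isSquare_trans hd'.ne_zero u3 u2
  exact ⟨a, b, ha, hb, isSquare_of_sq_mul hz.ne_zero u4⟩

end transfer

section main

variable [Fintype F]

omit [Fintype F] in
/-- the common tail of the induction step -/
theorem glue_step {V V' : Type u} [AddCommGroup V] [Module F V] [FiniteDimensional F V]
    [AddCommGroup V'] [Module F V'] [FiniteDimensional F V']
    {B : LinearMap.BilinForm F V} {N : V →ₗ[F] V}
    {B' : LinearMap.BilinForm F V'} {N' : V' →ₗ[F] V'} (h : IsSN B N) (h' : IsSN B' N')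
    {t : ℕ} {e : Fin t → ℕ} {σ : Idx e → Idx e} {d : Idx e → F} {v : Idx e → V}
    {v' : Idx e → V'} (hc : IsCanon B N e σ d v) (hc' : IsCanon B' N' e σ d v')
    (hconv : ∀ k, 1 ≤ k → 2 * ∑ s, (e s - k) ≤ ∑ s, (e s - (k - 1)) + ∑ s, (e s - (k + 1)))
    (hpos : 0 < ∑ s, e s)
    (hrk : ∀ k, rk N k = rk N' k)
    (hsgn : ∀ k, Even k → IsPart N k → SameSgn B N B' N' k)
    (IH : ∀ m, m < finrank F V → ∀ (W W' : Type u) [AddCommGroup W] [Module F W]
      [FiniteDimensional F W] [AddCommGroup W'] [Module F W'] [FiniteDimensional F W']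
      (C : LinearMap.BilinForm F W) (D : W →ₗ[F] W) (C' : LinearMap.BilinForm F W')
      (D' : W' →ₗ[F] W'), IsSN C D → IsSN C' D' → finrank F W = m → (∀ k, rk D k = rk D' k) →
      (∀ k, Even k → IsPart D k → SameSgn C D C' D' k) → Iso C D C' D') :
    Iso B N B' N' := by
  have hM := hc.good
  have hM' := hc'.good
  have iso1 := split_iso h hM
  have iso1' := split_iso h' hM'
  have isoM := hc.iso hc'
  have hP := h.restrict hM
  have hQ := h.restrict (hM.orth h)
  have hP' := h'.restrict hM'
  have hQ' := h'.restrict (hM'.orth h')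
  have r1 : ∀ k, rk N k = ∑ s, (e s - k) + rk (N.restrict (hM.orth h).inv) k := by
    intro k
    rw [← rk_iso iso1 k, rk_prod, hc.rk]
  have r1' : ∀ k, rk N' k = ∑ s, (e s - k) + rk (N'.restrict (hM'.orth h').inv) k := by
    intro k
    rw [← rk_iso iso1' k, rk_prod, hc'.rk]
  have r2 : ∀ k, rk (N.restrict (hM.orth h).inv) k = rk (N'.restrict (hM'.orth h').inv) k := by
    intro k
    have := hrk k
    rw [r1, r1'] at this
    omega
  have hdim : finrank F ↥(B.orthogonal (Submodule.span F (Set.range v))) < finrank F V := by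
    have := r1 0
    rw [rk_zero, rk_zero] at this
    simp only [Nat.sub_zero] at this
    omega
  have isoQ := IH _ hdim _ _ _ _ _ _ hQ hQ' rfl r2 (by
    intro k hk hpart
    apply sameSgn_of_prod h h' hP hQ hQ' iso1 iso1' isoM
    apply hsgn k hk
    obtain ⟨hk1, hpart⟩ := hpart
    refine ⟨hk1, ?_⟩
    rw [r1, r1, r1]
    have := hconv k hk1
    omega)
  exact iso1.symm.trans ((isoM.prod isoQ).trans iso1')

omit [Fintype F] in
theorem exists_index {V : Type*} [AddCommGroup V] [Module F V] [FiniteDimensional F V]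
    {N : V →ₗ[F] V} (hnil : IsNilpotent N) (hV : 0 < finrank F V) :
    ∃ i, 1 ≤ i ∧ N ^ i = 0 ∧ N ^ (i - 1) ≠ 0 := by
  classical
  have hi := Nat.find_spec hnil
  have hmin := fun m => Nat.find_min (m := m) hnil
  set i := Nat.find hnil with hidef
  have hi1 : 1 ≤ i := by
    rcases Nat.eq_zero_or_pos i with h0 | h0
    · exfalso
      rw [h0, pow_zero] at hi
      have : Nontrivial V := Module.finrank_pos_iff.1 hV
      obtain ⟨x, hx⟩ := exists_ne (0 : V)
      apply hx
      have := LinearMap.congr_fun hi x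
      simpa using this
    · exact h0
  exact ⟨i, hi1, hi, hmin (i - 1) (by omega)⟩

theorem unique_of_invariants (hF : ringChar F ≠ 2) :
    ∀ (n : ℕ) (V V' : Type u) [AddCommGroup V] [Module F V] [FiniteDimensional F V]
      [AddCommGroup V'] [Module F V'] [FiniteDimensional F V']
      (B : LinearMap.BilinForm F V) (N : V →ₗ[F] V) (B' : LinearMap.BilinForm F V')
      (N' : V' →ₗ[F] V'), IsSN B N → IsSN B' N' → finrank F V = n →
      (∀ k, rk N k = rk N' k) → (∀ k, Even k → IsPart N k → SameSgn B N B' N' k) →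
      Iso B N B' N' := by
  intro n
  induction n using Nat.strong_induction_on with
  | _ n IH =>
    intro V V' _ _ _ _ _ _ B N B' N' h h' hn hrk hsgn
    have h2 : (2 : F) ≠ 0 := Ring.two_ne_zero hF
    have hn' : finrank F V' = n := by
      rw [← rk_zero N', ← hrk, rk_zero, hn]
    by_cases hn0 : n = 0
    · have s1 : Subsingleton V := Module.finrank_zero_iff.1 (hn.trans hn0)
      have s2 : Subsingleton V' := Module.finrank_zero_iff.1 (hn'.trans hn0)
      refine ⟨LinearEquiv.ofSubsingleton V V', fun x y => ?_, fun x => Subsingleton.elim _ _⟩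
      rw [Subsingleton.elim x 0]
      simp
    · have hV : 0 < finrank F V := by omega
      obtain ⟨i, hi1, hNi, hNi1⟩ := exists_index h.nil hV
      have hNi' : N' ^ i = 0 := by
        rw [← rk_eq_zero_iff, ← hrk, rk_eq_zero_iff, hNi]
      have hNi1' : N' ^ (i - 1) ≠ 0 := by
        intro h0
        apply hNi1
        rw [← rk_eq_zero_iff, hrk, rk_eq_zero_iff, h0]
      have IH' : ∀ m, m < finrank F V → ∀ (W W' : Type u) [AddCommGroup W] [Module F W]
          [FiniteDimensional F W] [AddCommGroup W'] [Module F W'] [FiniteDimensional F W']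
          (C : LinearMap.BilinForm F W) (D : W →ₗ[F] W) (C' : LinearMap.BilinForm F W')
          (D' : W' →ₗ[F] W'), IsSN C D → IsSN C' D' → finrank F W = m →
          (∀ k, rk D k = rk D' k) →
          (∀ k, Even k → IsPart D k → SameSgn C D C' D' k) → Iso C D C' D' := by
        intro m hm
        exact IH m (by omega)
      rcases Nat.even_or_odd i with hev | hod
      · -- even top size
        have htop : Odd (i - 1) := by
          obtain ⟨s, hs⟩ := hev
          exact ⟨s - 1, by omega⟩
        have hpart : IsPart N i := by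
          refine ⟨hi1, ?_⟩
          have e1 : rk N i = 0 := (rk_eq_zero_iff N i).2 hNi
          have e2 : rk N (i + 1) = 0 :=
            (rk_eq_zero_iff N (i + 1)).2 (pow_eq_zero_of_le (by omega) hNi)
          have e3 : rk N (i - 1) ≠ 0 := fun h0 => hNi1 ((rk_eq_zero_iff N (i - 1)).1 h0)
          omega
        obtain ⟨y₁, hy₁⟩ := exists_top_ne_zero h' h2 htop hNi1'
        obtain ⟨x, hx⟩ : ∃ x, B x ((N ^ (i - 1)) x) = B' y₁ ((N' ^ (i - 1)) y₁) := by
          by_cases hρ : 2 ≤ rk N (i - 1)
          · exact exists_rep hF h htop hρ _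
          · have e3 : rk N (i - 1) ≠ 0 := fun h0 => hNi1 ((rk_eq_zero_iff N (i - 1)).1 h0)
            have hρ1 : rk N (i - 1) = 1 := by omega
            have hρ1' : rk N' (i - 1) = 1 := by rw [← hrk, hρ1]
            obtain ⟨x₁, hx₁⟩ := exists_top_ne_zero h h2 htop hNi1
            have hne : (N ^ (i - 1)) x₁ ≠ 0 := by
              intro h0
              apply hx₁
              rw [h0, map_zero]
            have hne' : (N' ^ (i - 1)) y₁ ≠ 0 := by
              intro h0
              apply hy₁
              rw [h0, map_zero]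
            have D1 := disc_single B N i x₁ (span_sup_ker_of_rk_one hρ1 x₁ hne) hx₁
            have D2 := disc_single B' N' i y₁ (span_sup_ker_of_rk_one hρ1' y₁ hne') hy₁
            obtain ⟨d, d', hd, hd', hsq⟩ := hsgn i hev hpart
            have u1 := disc_unique h D1 hd
            have u2 := disc_unique h' hd' D2
            have u3 := isSquare_trans hd'.ne_zero (isSquare_trans hd.ne_zero u1 hsq) u2
            obtain ⟨s, hs⟩ := u3
            refine ⟨(s / B x₁ ((N ^ (i - 1)) x₁)) • x₁, ?_⟩
            simp only [map_smul, LinearMap.smul_apply, smul_eq_mul]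
            field_simp
            linear_combination (-1 : F) * hs
        obtain ⟨v, hv⟩ := peel_even h h2 hev hNi hy₁ x hx
        obtain ⟨v', hv'⟩ := peel_even h' h2 hev hNi' hy₁ y₁ rfl
        refine glue_step h h' hv hv' ?_ ?_ hrk hsgn IH'
        · intro k hk
          simp only [evE, Finset.sum_const, Finset.card_univ, Fintype.card_fin, smul_eq_mul]
          omega
        · simp only [evE, Finset.sum_const, Finset.card_univ, Fintype.card_fin, smul_eq_mul]
          omega
      · -- odd top size
        obtain ⟨v, hv⟩ := peel_odd h h2 hod hNi hNi1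
        obtain ⟨v', hv'⟩ := peel_odd h' h2 hod hNi' hNi1'
        refine glue_step h h' hv hv' ?_ ?_ hrk hsgn IH'
        · intro k hk
          simp only [odE, Finset.sum_const, Finset.card_univ, Fintype.card_fin, smul_eq_mul]
          omega
        · simp only [odE, Finset.sum_const, Finset.card_univ, Fintype.card_fin, smul_eq_mul]
          omega

end main

end Cfsg.Agent.Lib.Helper5.SpUnip
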