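import Cfsg.Agent.Lib.Helper5.SpUnip.Parts
import Cfsg.Agent.Lib.Helper5.SpUnip.CaySp
import Cfsg.Agent.Lib.Helper5.SpUnip.Unique
import Cfsg.Agent.Lib.Helper5.SpUnip.Parity
import Cfsg.Agent.Lib.Helper4.JordanCount

set_option autoImplicit false

/-!
# Counting the classes of elements of order `p` in the symplectic group
-/

namespace Cfsg.Agent.Lib.Helper5.SpUnip

open Module Matrix Cfsg.Agent.Lib.Helper5.SympBridge Cfsg.Agent.Lib.Helper4.JordanNil

open Classical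

universe u

variable {F : Type u} [Field F]

theorem exists_type {V : Type u} [AddCommGroup V] [Module F V] [FiniteDimensional F V]
    (N : V →ₗ[F] V) (hN : IsNilpotent N) :
    ∃ μ : Multiset ℕ, (∀ a ∈ μ, 0 < a) ∧ ∀ k, rk N k = rsum μ k := by
  obtain ⟨t, e, b, hpos, hJ⟩ := exists_IsJB N hN
  refine ⟨Finset.univ.val.map e, ?_, fun k => ?_⟩
  · intro a ha
    obtain ⟨i, _, rfl⟩ := Multiset.mem_map.1 ha
    exact hpos i
  · unfold rk rsum
    rw [hJ.finrank_range_pow, Multiset.map_map]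
    rfl

theorem sameSgn_of_sqD_iff [Fintype F] (hF : ringChar F ≠ 2) {V : Type*} [AddCommGroup V]
    [Module F V] [FiniteDimensional F V] {V' : Type*} [AddCommGroup V'] [Module F V']
    [FiniteDimensional F V'] {B : LinearMap.BilinForm F V} {N : V →ₗ[F] V}
    {B' : LinearMap.BilinForm F V'} {N' : V' →ₗ[F] V'} (h : IsSN B N) (h' : IsSN B' N') {k : ℕ}
    (hiff : SqD B N k ↔ SqD B' N' k) : SameSgn B N B' N' k := by
  obtain ⟨d, hd⟩ := disc_exists h k
  obtain ⟨d', hd'⟩ := disc_exists h' k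
  refine ⟨d, d', hd, hd', ?_⟩
  rw [sqD_iff h hd, sqD_iff h' hd'] at hiff
  by_cases hs : IsSquare d
  · exact hs.mul (hiff.1 hs)
  · exact isSquare_mul_of_not hF hd.ne_zero hd'.ne_zero hs (fun h0 => hs (hiff.2 h0))

/-- the even parts -/
noncomputable def EvP (μ : Multiset ℕ) : Finset ℕ := μ.toFinset.filter (fun j => Even j)

theorem mem_EvP (μ : Multiset ℕ) (j : ℕ) : j ∈ EvP μ ↔ j ∈ μ ∧ Even j := by
  unfold EvP
  rw [Finset.mem_filter, Multiset.mem_toFinset]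

/-- admissible partitions -/
def Adm (p n : ℕ) (μ : Nat.Partition n) : Prop :=
  (∀ a ∈ μ.parts, a ≤ p) ∧ ∀ j : ℕ, Odd j → Even (μ.parts.count j)

/-- the parametrising type -/
abbrev Tgt (p m : ℕ) : Type :=
  Σ μ : {μ : Nat.Partition (2 * m) // Adm p (2 * m) μ ∧ μ ≠ ones (2 * m)},
    (↥(EvP μ.1.parts) → Bool)

variable {m : ℕ} {p : ℕ}

/-- the invariants of `g` are given by `τ` -/
def Rel (g : symplecticGroup (Fin m) F) (τ : Tgt p m) : Prop :=
  (∀ k, rk (cayN g) k = rsum τ.1.1.parts k) ∧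
    ∀ (j : ℕ) (hj : j ∈ EvP τ.1.1.parts),
      (SqD (sympBilin F m) (cayN g) j ↔ τ.2 ⟨j, hj⟩ = true)

theorem finrank_std : finrank F (Fin m ⊕ Fin m → F) = 2 * m := by
  rw [Module.finrank_fintype_fun_eq_card, Fintype.card_sum, Fintype.card_fin]
  ring

theorem isPart_iff {V : Type*} [AddCommGroup V] [Module F V] {N : V →ₗ[F] V} {μ : Multiset ℕ}
    (hrk : ∀ k, rk N k = rsum μ k) (k : ℕ) : IsPart N k ↔ k ∈ μ ∧ 1 ≤ k := by
  unfold IsPart
  constructor
  · rintro ⟨h1, h2⟩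
    obtain ⟨j, rfl⟩ : ∃ j, k = j + 1 := ⟨k - 1, by omega⟩
    have h3 := count_add μ j
    rw [hrk, hrk, hrk] at h2
    have e1 : j + 1 - 1 = j := by omega
    have e2 : j + 1 + 1 = j + 2 := by omega
    rw [e1, e2] at h2
    refine ⟨Multiset.count_pos.1 (by omega), h1⟩
  · rintro ⟨h1, h2⟩
    refine ⟨h2, ?_⟩
    obtain ⟨j, rfl⟩ : ∃ j, k = j + 1 := ⟨k - 1, by omega⟩
    have h3 := count_add μ j
    have h4 := Multiset.count_pos.2 h1
    rw [hrk, hrk, hrk]
    have e1 : j + 1 - 1 = j := by omega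
    have e2 : j + 1 + 1 = j + 2 := by omega
    rw [e1, e2]
    omega

section main

variable [Fintype F] [Fact p.Prime] [CharP F p]

omit [Fintype F] in
theorem exists_rel (hp : p ≠ 2) {g : symplecticGroup (Fin m) F} (hg : orderOf g = p) :
    ∃ τ : Tgt p m, Rel g τ := by
  have hF : ringChar F ≠ 2 := by rw [ringChar.eq F p]; exact hp
  have h2 : (2 : F) ≠ 0 := Ring.two_ne_zero hF
  have hgp : g ^ p = 1 := by rw [← hg]; exact pow_orderOf_eq_one g
  have hg1 : g ≠ 1 := by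
    rintro rfl
    rw [orderOf_one] at hg
    exact (Fact.out : p.Prime).one_lt.ne hg
  have h := cayN_isSN h2 hgp
  obtain ⟨μ, hpos, hrk⟩ := exists_type (cayN g) h.nil
  have hsum : μ.sum = 2 * m := by
    rw [← rsum_zero, ← hrk, rk_zero, finrank_std]
  have hadm : Adm p (2 * m) ⟨μ, fun {i} hi => hpos i hi, hsum⟩ := by
    refine ⟨?_, ?_⟩
    · change ∀ a ∈ μ, a ≤ p
      rw [← rsum_eq_zero_iff, ← hrk, rk_eq_zero_iff]
      exact cayN_pow h2 hgp
    · intro j hj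
      change Even (μ.count j)
      obtain ⟨k, rfl⟩ : ∃ k, j = k + 1 := by
        obtain ⟨s, hs⟩ := hj
        exact ⟨2 * s, hs⟩
      have hk : Even k := by
        obtain ⟨s, hs⟩ := hj
        exact ⟨s, by omega⟩
      have h3 := rk_parity h2 (2 * m) _ (sympBilin F m) (cayN g) h finrank_std k hk
      have h4 := count_add μ k
      rw [hrk, hrk] at h3
      rw [Nat.even_iff] at h3 ⊢
      omega
  have hne : (⟨μ, fun {i} hi => hpos i hi, hsum⟩ : Nat.Partition (2 * m)) ≠ ones (2 * m) := by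
    intro heq
    have h3 := (all_le_one_iff _).2 heq
    change ∀ a ∈ μ, a ≤ 1 at h3
    rw [← rsum_eq_zero_iff, ← hrk, rk_eq_zero_iff, pow_one, cayN_eq_zero_iff h2 hgp] at h3
    exact hg1 h3
  refine ⟨⟨⟨⟨μ, fun {i} hi => hpos i hi, hsum⟩, hadm, hne⟩,
    fun j => decide (SqD (sympBilin F m) (cayN g) j.1)⟩, hrk, fun j hj => ?_⟩
  simp

theorem isConj_of_rel (hp : p ≠ 2) {g g' : symplecticGroup (Fin m) F} (hg : orderOf g = p)
    (hg' : orderOf g' = p) {τ : Tgt p m} (hr : Rel g τ) (hr' : Rel g' τ) : IsConj g g' := by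
  have hF : ringChar F ≠ 2 := by rw [ringChar.eq F p]; exact hp
  have h2 : (2 : F) ≠ 0 := Ring.two_ne_zero hF
  have hgp : g ^ p = 1 := by rw [← hg]; exact pow_orderOf_eq_one g
  have hgp' : g' ^ p = 1 := by rw [← hg']; exact pow_orderOf_eq_one g'
  have h := cayN_isSN h2 hgp
  have h' := cayN_isSN h2 hgp'
  apply isConj_of_iso h2 hgp hgp'
  apply unique_of_invariants hF (2 * m) _ _ _ _ _ _ h h' finrank_std
  · intro k
    rw [hr.1, hr'.1]
  · intro k hk hpart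
    rw [isPart_iff hr.1] at hpart
    have hj : k ∈ EvP τ.1.1.parts := (mem_EvP _ _).2 ⟨hpart.1, hk⟩
    apply sameSgn_of_sqD_iff hF h h'
    rw [hr.2 k hj, hr'.2 k hj]

omit [Fintype F] in
theorem rel_unique (hp : p ≠ 2) {g g' : symplecticGroup (Fin m) F} (hg : orderOf g = p)
    (hc : IsConj g g') {τ τ' : Tgt p m} (hr : Rel g τ) (hr' : Rel g' τ') : τ = τ' := by
  have hF : ringChar F ≠ 2 := by rw [ringChar.eq F p]; exact hp
  have h2 : (2 : F) ≠ 0 := Ring.two_ne_zero hF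
  have hgp : g ^ p = 1 := by rw [← hg]; exact pow_orderOf_eq_one g
  have hi := iso_of_isConj h2 hgp hc
  obtain ⟨⟨π, hπ⟩, ε⟩ := τ
  obtain ⟨⟨π', hπ'⟩, ε'⟩ := τ'
  have e1 : π = π' := by
    apply Nat.Partition.ext
    apply eq_of_rsum_eq (fun a ha => π.parts_pos ha) (fun a ha => π'.parts_pos ha)
    intro k
    rw [← hr.1, ← hr'.1, rk_iso hi]
  subst e1
  have e2 : ε = ε' := by
    funext ⟨j, hj⟩
    rw [Bool.eq_iff_iff, ← hr.2 j hj, ← hr'.2 j hj]
    exact sqD_iso hi j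
  rw [e2]

theorem exists_of_tgt (hp : p ≠ 2) (τ : Tgt p m) :
    ∃ g : symplecticGroup (Fin m) F, orderOf g = p ∧ Rel g τ := by
  have hF : ringChar F ≠ 2 := by rw [ringChar.eq F p]; exact hp
  have h2 : (2 : F) ≠ 0 := Ring.two_ne_zero hF
  obtain ⟨⟨π, hadm, hne⟩, ε⟩ := τ
  obtain ⟨V, i1, i2, i3, B, N, h, hrk, hsg⟩ := exists_model (F := F) hF (halfList π.parts)
    (halfList_pairwise π.parts) (fun a ha => π.parts_pos ((mem_halfList π.parts a).1 ha).1)
    (fun a => ∀ ha : a ∈ EvP π.parts, ε ⟨a, ha⟩ = true)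
  have hrk' : ∀ k, rk N k = rsum π.parts k := by
    intro k
    rw [hrk, halfList_sum π.parts hadm.2]
  have hdim : finrank F V = 2 * m := by
    rw [← rk_zero N, hrk', rsum_zero, π.parts_sum]
  obtain ⟨φ, hφ⟩ := exists_std_isometry B h.alt h.nondeg m hdim
  set N₀ : Module.End F (Fin m ⊕ Fin m → F) :=
    (φ : V →ₗ[F] _) ∘ₗ N ∘ₗ (φ.symm : _ →ₗ[F] V) with hN₀
  have hi : Iso B N (sympBilin F m) N₀ := by
    refine ⟨φ, hφ, fun x => ?_⟩
    rw [hN₀]
    simp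
  have h₀ := h.of_iso hi
  have hN₀p : N₀ ^ p = 0 := by
    rw [← rk_eq_zero_iff, ← rk_iso hi, hrk', rsum_eq_zero_iff]
    exact hadm.1
  obtain ⟨g, hgp, hgN⟩ := exists_of_isSN h2 h₀ hN₀p
  have hg1 : g ≠ 1 := by
    intro hg1
    rw [← cayN_eq_zero_iff h2 hgp, hgN] at hg1
    apply hne
    rw [← all_le_one_iff]
    change ∀ a ∈ π.parts, a ≤ 1
    rw [← rsum_eq_zero_iff, ← hrk', rk_iso hi, rk_eq_zero_iff, pow_one, hg1]
  refine ⟨g, orderOf_eq_prime hgp hg1, fun k => ?_, fun j hj => ?_⟩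
  · rw [hgN, ← rk_iso hi, hrk']
  · rw [hgN, ← sqD_iso hi j]
    have hj' := (mem_EvP _ _).1 hj
    rw [hsg j ((mem_halfList_even π.parts hj'.2).2 hj'.1) hj'.2]
    constructor
    · intro h3
      exact h3 hj
    · intro h3 _
      exact h3

theorem card_classes_eq (hp : p ≠ 2) :
    Nat.card {C : ConjClasses ↥(symplecticGroup (Fin m) F) //
      ∃ g : symplecticGroup (Fin m) F, ConjClasses.mk g = C ∧ orderOf g = p} =
      Nat.card (Tgt p m) := by
  have key : ∀ C : {C : ConjClasses ↥(symplecticGroup (Fin m) F) //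
      ∃ g : symplecticGroup (Fin m) F, ConjClasses.mk g = C ∧ orderOf g = p},
      ∃ (τ : Tgt p m) (g : symplecticGroup (Fin m) F),
        ConjClasses.mk g = C.1 ∧ orderOf g = p ∧ Rel g τ := by
    rintro ⟨C, g, hgC, hg⟩
    obtain ⟨τ, hτ⟩ := exists_rel hp hg
    exact ⟨τ, g, hgC, hg, hτ⟩
  choose Ψ gΨ h1 h2 h3 using key
  apply Nat.card_congr (Equiv.ofBijective Ψ ⟨?_, ?_⟩)
  · intro C C' hCC
    apply Subtype.ext
    rw [← h1 C, ← h1 C', ConjClasses.mk_eq_mk_iff_isConj]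
    have := h3 C'
    rw [← hCC] at this
    exact isConj_of_rel hp (h2 C) (h2 C') (h3 C) this
  · intro τ
    obtain ⟨g₀, hord, hrel⟩ := exists_of_tgt (F := F) hp τ
    refine ⟨⟨ConjClasses.mk g₀, g₀, rfl, hord⟩, ?_⟩
    have hc : IsConj (gΨ ⟨ConjClasses.mk g₀, g₀, rfl, hord⟩) g₀ :=
      ConjClasses.mk_eq_mk_iff_isConj.1 (h1 ⟨ConjClasses.mk g₀, g₀, rfl, hord⟩)
    exact rel_unique hp (h2 _) hc (h3 _) hrel

end main

end Cfsg.Agent.Lib.Helper5.SpUnip
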