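import Cfsg.Agent.Lib.Helper5.SpUnip.Basic

set_option autoImplicit false

/-!
# The discriminants of the forms `B(x, N^(k-1) y)`
-/

namespace Cfsg.Agent.Lib.Helper5.SpUnip

open Module

variable {F : Type*} [Field F]
variable {V : Type*} [AddCommGroup V] [Module F V]
variable {V' : Type*} [AddCommGroup V'] [Module F V']

/-- Gram matrix of the form `B(x, N^(k-1) y)` on a family -/
def gram (B : LinearMap.BilinForm F V) (N : V →ₗ[F] V) (k : ℕ) {ι : Type*} (x : ι → V) :
    Matrix ι ι F :=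
  Matrix.of fun s t => B (x s) ((N ^ (k - 1)) (x t))

theorem gram_apply (B : LinearMap.BilinForm F V) (N : V →ₗ[F] V) (k : ℕ) {ι : Type*} (x : ι → V)
    (s t : ι) : gram B N k x s t = B (x s) ((N ^ (k - 1)) (x t)) := rfl

/-- `d` is the determinant of a Gram matrix of `B(x, N^(k-1) y)` on a family spanning `V`
modulo the radical `ker N^(k-1)`. -/
def Disc (B : LinearMap.BilinForm F V) (N : V →ₗ[F] V) (k : ℕ) (d : F) : Prop :=
  ∃ (ι : Type) (_ : Fintype ι) (_ : DecidableEq ι) (x : ι → V),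
    Submodule.span F (Set.range x) ⊔ LinearMap.ker (N ^ (k - 1)) = ⊤ ∧
      (gram B N k x).det = d ∧ d ≠ 0

theorem Disc.ne_zero {B : LinearMap.BilinForm F V} {N : V →ₗ[F] V} {k : ℕ} {d : F}
    (h : Disc B N k d) : d ≠ 0 := by
  obtain ⟨ι, _, _, x, _, _, h3⟩ := h
  exact h3

theorem disc_iso {B : LinearMap.BilinForm F V} {N : V →ₗ[F] V}
    {B' : LinearMap.BilinForm F V'} {N' : V' →ₗ[F] V'} (hi : Iso B N B' N') {k : ℕ} {d : F}
    (h : Disc B N k d) : Disc B' N' k d := by
  obtain ⟨φ, h1, h2⟩ := hi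
  obtain ⟨ι, i1, i2, x, hx, hd, hd0⟩ := h
  refine ⟨ι, i1, i2, fun s => φ (x s), ?_, ?_, hd0⟩
  · rw [eq_top_iff]
    intro y _
    have hy : φ.symm y ∈ Submodule.span F (Set.range x) ⊔ LinearMap.ker (N ^ (k - 1)) := by
      rw [hx]; trivial
    obtain ⟨a, ha, b, hb, hab⟩ := Submodule.mem_sup.1 hy
    have e1 : y = φ a + φ b := by rw [← map_add, hab]; simp
    rw [e1]
    apply Submodule.add_mem_sup
    · have : Set.range (fun s => φ (x s)) = (φ : V →ₗ[F] V') '' Set.range x := by
        ext z; simp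
      rw [this, ← Submodule.map_span]
      exact ⟨a, ha, rfl⟩
    · rw [LinearMap.mem_ker, ← iso_pow φ h2, LinearMap.mem_ker.1 hb, map_zero]
  · rw [← hd]
    congr 1
    ext s t
    rw [gram_apply, gram_apply, ← iso_pow φ h2, h1]

theorem disc_prod {B : LinearMap.BilinForm F V} {N : V →ₗ[F] V}
    {B' : LinearMap.BilinForm F V'} {N' : V' →ₗ[F] V'} {k : ℕ} {d d' : F}
    (h : Disc B N k d) (h' : Disc B' N' k d') :
    Disc (prodB B B') (N.prodMap N') k (d * d') := by
  obtain ⟨ι, i1, i2, x, hx, hd, hd0⟩ := h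
  obtain ⟨ι', i1', i2', x', hx', hd', hd0'⟩ := h'
  refine ⟨ι ⊕ ι', inferInstance, inferInstance,
    Sum.elim (fun s => (x s, 0)) (fun s => (0, x' s)), ?_, ?_, mul_ne_zero hd0 hd0'⟩
  · rw [eq_top_iff]
    rintro ⟨v, v'⟩ _
    have hv : v ∈ Submodule.span F (Set.range x) ⊔ LinearMap.ker (N ^ (k - 1)) := by
      rw [hx]; trivial
    have hv' : v' ∈ Submodule.span F (Set.range x') ⊔ LinearMap.ker (N' ^ (k - 1)) := by
      rw [hx']; trivial
    obtain ⟨a, ha, b, hb, rfl⟩ := Submodule.mem_sup.1 hv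
    obtain ⟨a', ha', b', hb', rfl⟩ := Submodule.mem_sup.1 hv'
    have e1 : ((a + b, a' + b') : V × V') = ((a, 0) + (0, a')) + (b, b') := by simp
    rw [e1]
    apply Submodule.add_mem_sup
    · apply Submodule.add_mem
      · have hle : (Submodule.span F (Set.range x)).map (LinearMap.inl F V V') ≤
            Submodule.span F (Set.range (Sum.elim (fun s => ((x s, 0) : V × V'))
              (fun s => ((0, x' s) : V × V')))) := by
          rw [Submodule.map_span]
          apply Submodule.span_mono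
          rintro _ ⟨_, ⟨s, rfl⟩, rfl⟩
          exact ⟨Sum.inl s, rfl⟩
        exact hle ⟨a, ha, rfl⟩
      · have hle : (Submodule.span F (Set.range x')).map (LinearMap.inr F V V') ≤
            Submodule.span F (Set.range (Sum.elim (fun s => ((x s, 0) : V × V'))
              (fun s => ((0, x' s) : V × V')))) := by
          rw [Submodule.map_span]
          apply Submodule.span_mono
          rintro _ ⟨_, ⟨s, rfl⟩, rfl⟩
          exact ⟨Sum.inr s, rfl⟩
        exact hle ⟨a', ha', rfl⟩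
    · rw [LinearMap.mem_ker, prodMap_pow_apply, LinearMap.mem_ker.1 hb, LinearMap.mem_ker.1 hb']
      rfl
  · have hG : gram (prodB B B') (N.prodMap N') k
        (Sum.elim (fun s => ((x s, 0) : V × V')) (fun s => ((0, x' s) : V × V'))) =
        Matrix.fromBlocks (gram B N k x) 0 0 (gram B' N' k x') := by
      ext s t
      rcases s with s | s <;> rcases t with t | t <;>
        simp [gram_apply, prodMap_pow_apply]
    rw [hG, Matrix.det_fromBlocks_zero₂₁, hd, hd']

theorem disc_of_pow_eq_zero (B : LinearMap.BilinForm F V) {N : V →ₗ[F] V} {k : ℕ}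
    (h : N ^ (k - 1) = 0) : Disc B N k 1 := by
  refine ⟨Empty, inferInstance, inferInstance, fun e => e.elim, ?_, ?_, one_ne_zero⟩
  · rw [h, LinearMap.ker_zero, sup_top_eq]
  · exact Matrix.det_isEmpty

theorem disc_single (B : LinearMap.BilinForm F V) (N : V →ₗ[F] V) (k : ℕ) (x : V)
    (hx : Submodule.span F {x} ⊔ LinearMap.ker (N ^ (k - 1)) = ⊤)
    (hc : B x ((N ^ (k - 1)) x) ≠ 0) : Disc B N k (B x ((N ^ (k - 1)) x)) := by
  refine ⟨Unit, inferInstance, inferInstance, fun _ => x, ?_, ?_, hc⟩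
  · rw [Set.range_const, hx]
  · rw [Matrix.det_unique, gram_apply]

section unique

variable {B : LinearMap.BilinForm F V} {N : V →ₗ[F] V}

theorem form_sum_sum {ι ι' : Type*} [Fintype ι] [Fintype ι'] (B : LinearMap.BilinForm F V)
    (T : V →ₗ[F] V) (x : ι → V) (y : ι' → V) (a : ι → F) (b : ι' → F) :
    B (∑ s, a s • x s) (T (∑ t, b t • y t)) = ∑ s, ∑ t, a s * B (x s) (T (y t)) * b t := by
  rw [map_sum, LinearMap.sum_apply]
  apply Finset.sum_congr rfl
  intro s _
  rw [map_sum, map_sum]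
  apply Finset.sum_congr rfl
  intro t _
  rw [map_smul, map_smul, map_smul, LinearMap.smul_apply, smul_eq_mul, smul_eq_mul]
  ring

theorem rad_left (h : IsSN B N) (k : ℕ) {r : V} (hr : r ∈ LinearMap.ker (N ^ k)) (u : V) :
    B r ((N ^ k) u) = 0 := by
  rw [h.skew_pow', LinearMap.mem_ker.1 hr]
  simp

/-- change of family -/
theorem gram_change (h : IsSN B N) (k : ℕ) {ι ι' : Type*} [Fintype ι] [DecidableEq ι]
    [Fintype ι'] [DecidableEq ι'] (x : ι → V) (x' : ι' → V)
    (hx : Submodule.span F (Set.range x) ⊔ LinearMap.ker (N ^ (k - 1)) = ⊤) :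
    ∃ P : Matrix ι' ι F, gram B N k x' = P * gram B N k x * P.transpose := by
  have key : ∀ s' : ι', ∃ (c : ι → F) (r : V), r ∈ LinearMap.ker (N ^ (k - 1)) ∧
      x' s' = ∑ s, c s • x s + r := by
    intro s'
    have hy : x' s' ∈ Submodule.span F (Set.range x) ⊔ LinearMap.ker (N ^ (k - 1)) := by
      rw [hx]; trivial
    obtain ⟨a, ha, b, hb, hab⟩ := Submodule.mem_sup.1 hy
    obtain ⟨c, hc⟩ := (Submodule.mem_span_range_iff_exists_fun F).1 ha
    exact ⟨c, b, hb, by rw [hc, hab]⟩
  choose P r hr hP using key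
  refine ⟨Matrix.of P, ?_⟩
  ext s' t'
  have e1 : (N ^ (k - 1)) (x' t') = (N ^ (k - 1)) (∑ s, P t' s • x s) := by
    rw [hP t', map_add, LinearMap.mem_ker.1 (hr t'), add_zero]
  rw [gram_apply, e1, hP s', map_add, LinearMap.add_apply, rad_left h _ (hr s'), add_zero,
    form_sum_sum, Matrix.mul_apply]
  simp only [Matrix.mul_apply, Matrix.transpose_apply, Matrix.of_apply, gram_apply,
    Finset.sum_mul]
  rw [Finset.sum_comm]

theorem card_le_of_gram {ι ι' : Type*} [Fintype ι] [DecidableEq ι]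
    [Fintype ι'] [DecidableEq ι'] (G : Matrix ι ι F) (G' : Matrix ι' ι' F) (P : Matrix ι' ι F)
    (hG : G' = P * G * P.transpose) (hdet : G'.det ≠ 0) : Fintype.card ι' ≤ Fintype.card ι := by
  have hu : IsUnit G' := by
    rw [Matrix.isUnit_iff_isUnit_det]
    exact isUnit_iff_ne_zero.2 hdet
  have h1 := Matrix.rank_of_isUnit G' hu
  rw [← h1, hG, Matrix.mul_assoc]
  exact (Matrix.rank_mul_le_left _ _).trans (Matrix.rank_le_card_width _)

theorem disc_unique (h : IsSN B N) {k : ℕ} {d d' : F} (hd : Disc B N k d) (hd' : Disc B N k d') :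
    IsSquare (d * d') := by
  obtain ⟨ι, i1, i2, x, hx, hdet, hd0⟩ := hd
  obtain ⟨ι', i1', i2', x', hx', hdet', hd0'⟩ := hd'
  obtain ⟨P, hP⟩ := gram_change h k x x' hx
  obtain ⟨Q, hQ⟩ := gram_change h k x' x hx'
  have hc1 := card_le_of_gram _ _ P hP (by rw [hdet']; exact hd0')
  have hc2 := card_le_of_gram _ _ Q hQ (by rw [hdet]; exact hd0)
  have e : ι ≃ ι' := Fintype.equivOfCardEq (le_antisymm hc2 hc1)
  have hx'' : Submodule.span F (Set.range (x' ∘ e)) ⊔ LinearMap.ker (N ^ (k - 1)) = ⊤ := by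
    rw [e.surjective.range_comp]
    exact hx'
  obtain ⟨R, hR⟩ := gram_change h k x (x' ∘ e) hx
  have hdet'' : (gram B N k (x' ∘ e)).det = d' := by
    rw [← hdet']
    have : gram B N k (x' ∘ e) = (gram B N k x').submatrix e e := by
      ext s t; rfl
    rw [this, Matrix.det_submatrix_equiv_self]
  rw [hR, Matrix.det_mul, Matrix.det_mul, Matrix.det_transpose, hdet] at hdet''
  refine ⟨R.det * d, ?_⟩
  rw [← hdet'']
  ring

end unique

theorem disc_exists [FiniteDimensional F V] {B : LinearMap.BilinForm F V} {N : V →ₗ[F] V}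
    (h : IsSN B N) (k : ℕ) : ∃ d, Disc B N k d := by
  obtain ⟨C, hC⟩ := Submodule.exists_isCompl (LinearMap.ker (N ^ (k - 1)))
  let b : Basis (Fin (finrank F C)) F C := Module.finBasis F C
  have hspan : Submodule.span F (Set.range (fun s => (b s : V))) = C := by
    have : Set.range (fun s => (b s : V)) = C.subtype '' Set.range b := by
      ext z; simp
    rw [this, ← Submodule.map_span, b.span_eq, Submodule.map_subtype_top]
  have hdet : (gram B N k (fun s => (b s : V))).det ≠ 0 := by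
    intro h0
    obtain ⟨v, hv0, hv⟩ := Matrix.exists_mulVec_eq_zero_iff.2 h0
    apply hv0
    set w : V := ∑ t, v t • (b t : V) with hw
    have h1 : ∀ s, B (b s : V) ((N ^ (k - 1)) w) = 0 := by
      intro s
      have := congrFun hv s
      rw [Matrix.mulVec, dotProduct, Pi.zero_apply] at this
      rw [hw, map_sum, map_sum, ← this]
      apply Finset.sum_congr rfl
      intro t _
      rw [map_smul, map_smul, gram_apply, smul_eq_mul, mul_comm]
    have h2 : ∀ u, B u ((N ^ (k - 1)) w) = 0 := by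
      intro u
      have hu : u ∈ LinearMap.ker (N ^ (k - 1)) ⊔ C := by rw [hC.sup_eq_top]; trivial
      obtain ⟨r, hr, c, hc, rfl⟩ := Submodule.mem_sup.1 hu
      rw [map_add, LinearMap.add_apply, rad_left h _ hr, zero_add]
      have hle : Submodule.span F (Set.range (fun s => (b s : V))) ≤
          LinearMap.ker (B.flip ((N ^ (k - 1)) w)) := by
        rw [Submodule.span_le]
        rintro _ ⟨s, rfl⟩
        exact h1 s
      rw [hspan] at hle
      exact hle hc
    have h3 : (N ^ (k - 1)) w = 0 := h.nondeg_right _ h2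
    have h4 : w ∈ LinearMap.ker (N ^ (k - 1)) ⊓ C := by
      refine ⟨h3, ?_⟩
      rw [hw]
      exact Submodule.sum_mem _ (fun t _ => Submodule.smul_mem _ _ (b t).2)
    rw [hC.inf_eq_bot, Submodule.mem_bot] at h4
    have h5 : ∑ t, v t • b t = 0 := by
      apply Subtype.ext
      have e : ((∑ t, v t • b t : C) : V) = w := by
        rw [hw]; simp
      rw [e, h4]; rfl
    have := Fintype.linearIndependent_iff.1 b.linearIndependent v h5
    ext t
    exact this t
  refine ⟨_, Fin (finrank F C), inferInstance, inferInstance, fun s => (b s : V), ?_, rfl, hdet⟩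
  rw [hspan, sup_comm, hC.sup_eq_top]

/-- the discriminant is a square -/
def SqD (B : LinearMap.BilinForm F V) (N : V →ₗ[F] V) (k : ℕ) : Prop :=
  ∃ d, Disc B N k d ∧ IsSquare d

theorem isSquare_of_mul {a b : F} (ha : a ≠ 0) (h1 : IsSquare a) (h2 : IsSquare (a * b)) :
    IsSquare b := by
  obtain ⟨s, hs⟩ := h1
  obtain ⟨t, ht⟩ := h2
  have hs0 : s ≠ 0 := by
    rintro rfl
    apply ha
    rw [hs, mul_zero]
  refine ⟨t / s, ?_⟩
  field_simp
  rw [hs] at ht
  linear_combination ht

theorem sqD_iff {B : LinearMap.BilinForm F V} {N : V →ₗ[F] V} (h : IsSN B N) {k : ℕ} {d : F}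
    (hd : Disc B N k d) : SqD B N k ↔ IsSquare d := by
  constructor
  · rintro ⟨d₀, h1, h2⟩
    exact isSquare_of_mul h1.ne_zero h2 (disc_unique h h1 hd)
  · intro h2
    exact ⟨d, hd, h2⟩

theorem sqD_iso {B : LinearMap.BilinForm F V} {N : V →ₗ[F] V}
    {B' : LinearMap.BilinForm F V'} {N' : V' →ₗ[F] V'} (hi : Iso B N B' N') (k : ℕ) :
    SqD B N k ↔ SqD B' N' k := by
  constructor
  · rintro ⟨d, h1, h2⟩
    exact ⟨d, disc_iso hi h1, h2⟩
  · rintro ⟨d, h1, h2⟩
    exact ⟨d, disc_iso hi.symm h1, h2⟩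

end Cfsg.Agent.Lib.Helper5.SpUnip
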