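import Cfsg.Agent.Lib.Helper5.SpUnip.Double

set_option autoImplicit false

/-!
# Existence of triples with prescribed ranks and signs
-/

namespace Cfsg.Agent.Lib.Helper5.SpUnip

open Module

universe u

variable {F : Type u} [Field F]

/-- weight of a size: even sizes count once, odd sizes come in pairs -/
def wt (a : ℕ) : ℕ := if Even a then 1 else 2

theorem sqD_prod_of_pow_eq_zero {V : Type*} [AddCommGroup V] [Module F V] [FiniteDimensional F V]
    {P : Type*} [AddCommGroup P] [Module F P]
    {B : LinearMap.BilinForm F V} {N : V →ₗ[F] V} {BP : LinearMap.BilinForm F P}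
    {NP : P →ₗ[F] P} (h : IsSN B N) (hP : IsSN BP NP) {b : ℕ} (hzero : NP ^ (b - 1) = 0) :
    SqD (prodB B BP) (N.prodMap NP) b ↔ SqD B N b := by
  obtain ⟨d, hd⟩ := disc_exists h b
  have h1 := disc_prod hd (disc_of_pow_eq_zero BP hzero)
  rw [sqD_iff (h.prod hP) h1, sqD_iff h hd, mul_one]

theorem exists_model [Fintype F] (hF : ringChar F ≠ 2) (l : List ℕ) (hl : l.Pairwise (· ≤ ·))
    (hpos : ∀ a ∈ l, 0 < a) (s : ℕ → Prop) :
    ∃ (V : Type u) (_ : AddCommGroup V) (_ : Module F V) (_ : FiniteDimensional F V)
      (B : LinearMap.BilinForm F V) (N : V →ₗ[F] V),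
      IsSN B N ∧ (∀ k, rk N k = (l.map (fun a => wt a * (a - k))).sum) ∧
        ∀ a ∈ l, Even a → (SqD B N a ↔ s a) := by
  have h2 : (2 : F) ≠ 0 := Ring.two_ne_zero hF
  induction l with
  | nil =>
    refine ⟨Fin 0 → F, inferInstance, inferInstance, inferInstance, 0, 0, ?_, ?_, ?_⟩
    · refine ⟨fun x => rfl, fun x _ => Subsingleton.elim _ _, fun x y => ?_, ⟨1, pow_one _⟩⟩
      simp
    · intro k
      have := Submodule.finrank_le (LinearMap.range ((0 : (Fin 0 → F) →ₗ[F] (Fin 0 → F)) ^ k))
      have h0 : finrank F (Fin 0 → F) = 0 := by simp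
      unfold rk
      simp only [List.map_nil, List.sum_nil]
      omega
    · intro a ha
      simp at ha
  | cons a l' ih =>
    rw [List.pairwise_cons] at hl
    obtain ⟨V, i1, i2, i3, B, N, h, hrk, hsg⟩ :=
      ih hl.2 (fun b hb => hpos b (List.mem_cons_of_mem _ hb))
    have ha0 : 0 < a := hpos a List.mem_cons_self
    rcases Nat.even_or_odd a with hev | hod
    · obtain ⟨d', hd'⟩ := disc_exists h a
      obtain ⟨c, hc0, hcs⟩ : ∃ c : F, c ≠ 0 ∧ (IsSquare (d' * c) ↔ s a) := by
        by_cases hs : s a
        · exact ⟨d', hd'.ne_zero, by simp [hs]⟩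
        · obtain ⟨ν, hν⟩ := FiniteField.exists_nonsquare hF
          have hν0 : ν ≠ 0 := by
            rintro rfl
            exact hν ⟨0, by simp⟩
          refine ⟨ν * d', mul_ne_zero hν0 hd'.ne_zero, ?_⟩
          constructor
          · rintro ⟨t, ht⟩
            exfalso
            apply hν
            refine ⟨t / d', ?_⟩
            have := hd'.ne_zero
            field_simp
            linear_combination ht
          · intro h'
            exact absurd h' hs
      obtain ⟨P, j1, j2, j3, BP, NP, hP, hrkP, hNP, hDP⟩ := exists_even_piece h2 hev ha0 hc0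
      refine ⟨V × P, inferInstance, inferInstance, inferInstance, prodB B BP, N.prodMap NP,
        h.prod hP, fun k => ?_, fun b hb hbe => ?_⟩
      · rw [rk_prod, hrk, hrkP, List.map_cons, List.sum_cons, wt, if_pos hev]
        ring
      · by_cases hba : b = a
        · rw [hba, sqD_iff (h.prod hP) (disc_prod hd' hDP)]
          exact hcs
        · have hb' : b ∈ l' := by
            rcases List.mem_cons.1 hb with hb1 | hb1
            · exact absurd hb1 hba
            · exact hb1
          have hab : a ≤ b - 1 := by
            have := hl.1 b hb'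
            omega
          rw [sqD_prod_of_pow_eq_zero h hP (pow_eq_zero_of_le hab hNP)]
          exact hsg b hb' hbe
    · obtain ⟨P, j1, j2, j3, BP, NP, hP, hrkP, hNP⟩ := exists_pair_piece (F := F) a
      refine ⟨V × P, inferInstance, inferInstance, inferInstance, prodB B BP, N.prodMap NP,
        h.prod hP, fun k => ?_, fun b hb hbe => ?_⟩
      · rw [rk_prod, hrk, hrkP, List.map_cons, List.sum_cons, wt,
          if_neg (Nat.not_even_iff_odd.2 hod)]
        ring
      · have hba : b ≠ a := by
          rintro rfl
          exact (Nat.not_even_iff_odd.2 hod) hbe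
        have hb' : b ∈ l' := by
          rcases List.mem_cons.1 hb with hb1 | hb1
          · exact absurd hb1 hba
          · exact hb1
        have hab : a ≤ b - 1 := by
          have := hl.1 b hb'
          omega
        rw [sqD_prod_of_pow_eq_zero h hP (pow_eq_zero_of_le hab hNP)]
        exact hsg b hb' hbe

end Cfsg.Agent.Lib.Helper5.SpUnip
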