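import Cfsg.Agent.Lib.Helper5.SpUnip.Count

set_option autoImplicit false

/-!
# The number of classes of elements of order `p` in `Sp_{2m}(q)`, `q` odd
-/

namespace Cfsg.Agent.Lib.Helper5.SpUnip

open Module Matrix Cfsg.Agent.Lib.Helper4.JordanNil

open Classical

universe u

theorem evP_ones (n : ℕ) : EvP (ones n).parts = ∅ := by
  rw [Finset.eq_empty_iff_forall_notMem]
  intro j hj
  rw [mem_EvP] at hj
  have h1 : (ones n).parts = Multiset.replicate n 1 := rfl
  rw [h1] at hj
  have := Multiset.eq_of_mem_replicate hj.1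
  rw [this] at hj
  exact absurd hj.2 (by decide)

theorem adm_ones (p n : ℕ) (hp : 1 ≤ p) (hn : Even n) : Adm p n (ones n) := by
  have h1 : (ones n).parts = Multiset.replicate n 1 := rfl
  refine ⟨fun a ha => ?_, fun j hj => ?_⟩
  · rw [h1] at ha
    rw [Multiset.eq_of_mem_replicate ha]
    exact hp
  · rw [h1, Multiset.count_replicate]
    split_ifs
    · exact hn
    · exact ⟨0, rfl⟩

theorem card_tgt (p m : ℕ) (hp : 1 ≤ p) :
    Nat.card (Tgt p m) =
      (∑ μ ∈ Finset.univ.filter (fun μ : Nat.Partition (2 * m) => Adm p (2 * m) μ),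
        2 ^ (EvP μ.parts).card) - 1 := by
  rw [Nat.card_eq_fintype_card, Fintype.card_sigma]
  have e1 : ∀ x : {μ : Nat.Partition (2 * m) // Adm p (2 * m) μ ∧ μ ≠ ones (2 * m)},
      Fintype.card (↥(EvP x.1.parts) → Bool) = 2 ^ (EvP x.1.parts).card := by
    intro x
    rw [Fintype.card_fun, Fintype.card_bool, Fintype.card_coe]
  simp only [e1]
  have e2 := Finset.sum_subtype (F := inferInstance)
    ((Finset.univ.filter (fun μ : Nat.Partition (2 * m) => Adm p (2 * m) μ)).erase (ones (2 * m)))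
    (p := fun μ : Nat.Partition (2 * m) => Adm p (2 * m) μ ∧ μ ≠ ones (2 * m))
    (fun x => by
      rw [Finset.mem_erase, Finset.mem_filter]
      simp only [Finset.mem_univ, true_and]
      exact and_comm)
    (fun μ => 2 ^ (EvP μ.parts).card)
  rw [← e2]
  have hmem : ones (2 * m) ∈
      Finset.univ.filter (fun μ : Nat.Partition (2 * m) => Adm p (2 * m) μ) := by
    rw [Finset.mem_filter]
    exact ⟨Finset.mem_univ _, adm_ones p (2 * m) hp ⟨m, by ring⟩⟩
  have e3 := Finset.add_sum_erase _ (fun μ : Nat.Partition (2 * m) => 2 ^ (EvP μ.parts).card) hmem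
  rw [evP_ones, Finset.card_empty, pow_zero] at e3
  omega

theorem sp_order_p_classes {F : Type u} [Field F] [Fintype F] {p : ℕ} [Fact p.Prime] [CharP F p]
    (hp : p ≠ 2) (m : ℕ) :
    Nat.card {C : ConjClasses ↥(Matrix.symplecticGroup (Fin m) F) //
      ∃ g : Matrix.symplecticGroup (Fin m) F, ConjClasses.mk g = C ∧ orderOf g = p} =
      (∑ μ ∈ Finset.univ.filter (fun μ : Nat.Partition (2 * m) =>
        (∀ a ∈ μ.parts, a ≤ p) ∧ ∀ j : ℕ, Odd j → Even (μ.parts.count j)),
        2 ^ ((μ.parts.toFinset.filter (fun j : ℕ => Even j)).card)) - 1 := by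
  rw [card_classes_eq hp, card_tgt p m (Fact.out : p.Prime).one_lt.le]
  congr 1
  apply Finset.sum_congr
  · ext μ
    simp only [Finset.mem_filter, Finset.mem_univ, true_and]
    rfl
  · intro μ _
    unfold EvP
    congr!

end Cfsg.Agent.Lib.Helper5.SpUnip
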