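import Cfsg.Agent.Lib.Helper5.SpUnip.Exist

set_option autoImplicit false

/-!
# Multisets of block sizes and the rank sums
-/

namespace Cfsg.Agent.Lib.Helper5.SpUnip

/-- the rank sum of a multiset of sizes -/
def rsum (μ : Multiset ℕ) (k : ℕ) : ℕ := (μ.map (fun a => a - k)).sum

/-- number of parts exceeding `k` -/
def gtc (μ : Multiset ℕ) (k : ℕ) : ℕ := Multiset.card (μ.filter (fun a => k < a))

theorem gtc_zero (k : ℕ) : gtc 0 k = 0 := by
  simp [gtc]

theorem gtc_cons (a : ℕ) (μ : Multiset ℕ) (k : ℕ) :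
    gtc (a ::ₘ μ) k = gtc μ k + if k < a then 1 else 0 := by
  unfold gtc
  by_cases h : k < a
  · rw [Multiset.filter_cons_of_pos _ h, Multiset.card_cons, if_pos h]
  · rw [Multiset.filter_cons_of_neg _ h, if_neg h, add_zero]

theorem rsum_succ (μ : Multiset ℕ) (k : ℕ) : rsum μ k = rsum μ (k + 1) + gtc μ k := by
  induction μ using Multiset.induction with
  | empty => simp [rsum, gtc_zero]
  | cons a μ ih =>
    have e1 : ∀ j, rsum (a ::ₘ μ) j = (a - j) + rsum μ j := by
      intro j
      unfold rsum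
      rw [Multiset.map_cons, Multiset.sum_cons]
    rw [e1, e1, gtc_cons, ih]
    split_ifs with h <;> omega

theorem card_filter_lt (μ : Multiset ℕ) (k : ℕ) :
    gtc μ k = gtc μ (k + 1) + μ.count (k + 1) := by
  induction μ using Multiset.induction with
  | empty => simp [gtc_zero]
  | cons a μ ih =>
    rw [gtc_cons, gtc_cons, ih, Multiset.count_cons]
    split_ifs <;> omega

/-- the multiplicity in terms of the rank sums -/
theorem count_add (μ : Multiset ℕ) (k : ℕ) :
    μ.count (k + 1) + 2 * rsum μ (k + 1) = rsum μ k + rsum μ (k + 2) := by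
  have h1 := rsum_succ μ k
  have h2 : rsum μ (k + 1) = rsum μ (k + 2) + gtc μ (k + 1) := rsum_succ μ (k + 1)
  have h3 := card_filter_lt μ k
  omega

theorem eq_of_rsum_eq {μ μ' : Multiset ℕ} (hpos : ∀ a ∈ μ, 0 < a) (hpos' : ∀ a ∈ μ', 0 < a)
    (h : ∀ k, rsum μ k = rsum μ' k) : μ = μ' := by
  ext j
  rcases Nat.eq_zero_or_pos j with rfl | hj
  · rw [Multiset.count_eq_zero_of_notMem, Multiset.count_eq_zero_of_notMem]
    · intro h0; exact absurd (hpos' 0 h0) (lt_irrefl 0)
    · intro h0; exact absurd (hpos 0 h0) (lt_irrefl 0)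
  · obtain ⟨k, rfl⟩ : ∃ k, j = k + 1 := ⟨j - 1, by omega⟩
    have h1 := count_add μ k
    have h2 := count_add μ' k
    rw [h k, h (k + 1), h (k + 2)] at h1
    omega

theorem rsum_eq_zero_iff (μ : Multiset ℕ) (k : ℕ) : rsum μ k = 0 ↔ ∀ a ∈ μ, a ≤ k := by
  unfold rsum
  rw [Multiset.sum_eq_zero_iff]
  constructor
  · intro h a ha
    have := h (a - k) (Multiset.mem_map.2 ⟨a, ha, rfl⟩)
    omega
  · intro h x hx
    obtain ⟨a, ha, rfl⟩ := Multiset.mem_map.1 hx
    have := h a ha
    omega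

theorem rsum_zero (μ : Multiset ℕ) : rsum μ 0 = μ.sum := by
  unfold rsum
  simp

/-- the list of sizes: each even size with its multiplicity, each odd size with half of it -/
noncomputable def halfList (μ : Multiset ℕ) : List ℕ :=
  (μ.toFinset.val.bind (fun j =>
    Multiset.replicate (if Even j then μ.count j else μ.count j / 2) j)).sort (· ≤ ·)

theorem halfList_pairwise (μ : Multiset ℕ) : (halfList μ).Pairwise (· ≤ ·) :=
  Multiset.pairwise_sort _ _

theorem mem_halfList (μ : Multiset ℕ) (a : ℕ) :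
    a ∈ halfList μ ↔ a ∈ μ ∧ (if Even a then μ.count a else μ.count a / 2) ≠ 0 := by
  unfold halfList
  rw [Multiset.mem_sort, Multiset.mem_bind]
  constructor
  · rintro ⟨j, hj, ha⟩
    rw [Multiset.mem_replicate] at ha
    obtain ⟨h1, rfl⟩ := ha
    exact ⟨Multiset.mem_toFinset.1 hj, h1⟩
  · rintro ⟨h1, h2⟩
    exact ⟨a, Multiset.mem_toFinset.2 h1, Multiset.mem_replicate.2 ⟨h2, rfl⟩⟩

theorem mem_halfList_even (μ : Multiset ℕ) {a : ℕ} (ha : Even a) : a ∈ halfList μ ↔ a ∈ μ := by
  rw [mem_halfList, if_pos ha]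
  constructor
  · exact fun h => h.1
  · intro h
    exact ⟨h, (Multiset.count_pos.2 h).ne'⟩

theorem halfList_sum (μ : Multiset ℕ) (hev : ∀ j, Odd j → Even (μ.count j)) (k : ℕ) :
    ((halfList μ).map (fun a => wt a * (a - k))).sum = rsum μ k := by
  have e1 : ((halfList μ).map (fun a => wt a * (a - k))).sum =
      ((↑(halfList μ) : Multiset ℕ).map (fun a => wt a * (a - k))).sum := by
    rw [Multiset.map_coe, Multiset.sum_coe]
  rw [e1]
  unfold halfList
  rw [Multiset.sort_eq, Multiset.map_bind, Multiset.sum_bind]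
  have e2 : rsum μ k = (μ.toFinset.val.map (fun j => μ.count j • (j - k))).sum := by
    unfold rsum
    rw [Finset.sum_multiset_map_count, Finset.sum_eq_multiset_sum]
  rw [e2]
  congr 1
  apply Multiset.map_congr rfl
  intro j _
  rw [Multiset.map_replicate, Multiset.sum_replicate, smul_eq_mul, smul_eq_mul]
  unfold wt
  by_cases hj : Even j
  · rw [if_pos hj, if_pos hj, one_mul]
  · rw [if_neg hj, if_neg hj]
    obtain ⟨c, hc⟩ := hev j (Nat.not_even_iff_odd.1 hj)
    rw [hc]
    have : (c + c) / 2 = c := by omega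
    rw [this]
    ring

end Cfsg.Agent.Lib.Helper5.SpUnip
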