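import Cfsg.Agent.Lib.Helper5.SpUnip.Disc

set_option autoImplicit false

/-!
# Values represented by the top form over a finite field
-/

namespace Cfsg.Agent.Lib.Helper5.SpUnip

open Module Polynomial

variable {F : Type*} [Field F]
variable {V : Type*} [AddCommGroup V] [Module F V]
variable {B : LinearMap.BilinForm F V} {N : V →ₗ[F] V}

theorem exists_sq_add_sq [Fintype F] (hF : ringChar F ≠ 2) {a b : F} (ha : a ≠ 0) (hb : b ≠ 0)
    (c : F) : ∃ s t : F, a * s ^ 2 + b * t ^ 2 = c := by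
  have h1 : (C a * X ^ 2 : F[X]).degree = 2 := by
    rw [degree_C_mul_X_pow 2 ha]; rfl
  have h2 : (C b * X ^ 2 - C c : F[X]).degree = 2 := by
    rw [degree_sub_C, degree_C_mul_X_pow 2 hb]
    · rfl
    · rw [degree_C_mul_X_pow 2 hb]; norm_num
  obtain ⟨s, t, hst⟩ := FiniteField.exists_root_sum_quadratic h1 h2
    (FiniteField.odd_card_of_char_ne_two hF)
  refine ⟨s, t, ?_⟩
  simp only [eval_mul, eval_C, eval_pow, eval_X, eval_sub] at hst
  linear_combination hst

theorem isSquare_mul_of_not [Fintype F] (hF : ringChar F ≠ 2) {a b : F} (ha : a ≠ 0) (hb : b ≠ 0)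
    (h1 : ¬ IsSquare a) (h2 : ¬ IsSquare b) : IsSquare (a * b) := by
  rw [FiniteField.isSquare_iff hF ha] at h1
  rw [FiniteField.isSquare_iff hF hb] at h2
  rw [FiniteField.isSquare_iff hF (mul_ne_zero ha hb), mul_pow]
  rcases FiniteField.pow_dichotomy hF ha with h | h
  · exact absurd h h1
  · rcases FiniteField.pow_dichotomy hF hb with h' | h'
    · exact absurd h' h2
    · rw [h, h']; ring

/-- `IsSquare (a*b)` is transitive on nonzero elements -/
theorem isSquare_trans {a b c : F} (hb : b ≠ 0) (h1 : IsSquare (a * b)) (h2 : IsSquare (b * c)) :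
    IsSquare (a * c) := by
  obtain ⟨s, hs⟩ := h1
  obtain ⟨t, ht⟩ := h2
  refine ⟨s * t / b, ?_⟩
  field_simp
  linear_combination b * c * hs + s * s * ht

theorem isSquare_symm {a b : F} (h : IsSquare (a * b)) : IsSquare (b * a) := by
  rwa [mul_comm]

section rep

variable [FiniteDimensional F V]

theorem span_sup_ker_of_rk_one {k : ℕ} (hρ : rk N k = 1) (x : V) (hx : (N ^ k) x ≠ 0) :
    Submodule.span F {x} ⊔ LinearMap.ker (N ^ k) = ⊤ := by
  have h1 := LinearMap.finrank_range_add_finrank_ker (N ^ k)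
  unfold rk at hρ
  rw [hρ] at h1
  have hlt : LinearMap.ker (N ^ k) < Submodule.span F {x} ⊔ LinearMap.ker (N ^ k) := by
    rw [lt_iff_le_and_ne]
    refine ⟨le_sup_right, fun heq => hx ?_⟩
    have : x ∈ LinearMap.ker (N ^ k) := by
      rw [heq]
      exact Submodule.mem_sup_left (Submodule.mem_span_singleton_self x)
    exact this
  have h3 := Submodule.finrank_lt_finrank_of_lt hlt
  apply Submodule.eq_top_of_finrank_eq
  have h4 := Submodule.finrank_le (Submodule.span F {x} ⊔ LinearMap.ker (N ^ k))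
  omega

omit [FiniteDimensional F V] in
theorem exists_orth_ne_zero (h : IsSN B N) (h2 : (2 : F) ≠ 0) {k : ℕ} (hk : Odd k)
    (hρ : 2 ≤ rk N k) (x₁ : V) (ha : B x₁ ((N ^ k) x₁) ≠ 0) :
    ∃ x₂, B x₁ ((N ^ k) x₂) = 0 ∧ B x₂ ((N ^ k) x₂) ≠ 0 := by
  by_contra hcon
  push Not at hcon
  have hpol : ∀ y y', B x₁ ((N ^ k) y) = 0 → B x₁ ((N ^ k) y') = 0 → B y ((N ^ k) y') = 0 := by
    intro y y' hy hy'
    have h1 := hcon (y + y') (by rw [map_add, map_add, hy, hy', add_zero])
    simp only [map_add, LinearMap.add_apply] at h1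
    rw [hcon y hy, hcon y' hy', h.symm_odd hk y' y] at h1
    have h3 : 2 * B y ((N ^ k) y') = 0 := by linear_combination h1
    rcases mul_eq_zero.1 h3 with h4 | h4
    · exact absurd h4 h2
    · exact h4
  have hw : ∀ z, B x₁ ((N ^ k) (z - (B x₁ ((N ^ k) z) / B x₁ ((N ^ k) x₁)) • x₁)) = 0 := by
    intro z
    rw [map_sub, map_smul, map_sub, map_smul, smul_eq_mul]
    field_simp
    ring
  have hW : ∀ y, B x₁ ((N ^ k) y) = 0 → (N ^ k) y = 0 := by
    intro y hy
    apply h.nondeg_right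
    intro z
    have h1 := hpol _ y (hw z) hy
    rw [map_sub, LinearMap.sub_apply, map_smul, LinearMap.smul_apply,
      h.symm_odd hk x₁ y, h.symm_odd hk y x₁, hy] at h1
    simpa using h1
  have hr : LinearMap.range (N ^ k) ≤ Submodule.span F {(N ^ k) x₁} := by
    rintro _ ⟨z, rfl⟩
    have h1 := hW _ (hw z)
    rw [map_sub, map_smul, sub_eq_zero] at h1
    rw [h1]
    exact Submodule.smul_mem _ _ (Submodule.mem_span_singleton_self _)
  have hne : (N ^ k) x₁ ≠ 0 := by
    intro h0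
    apply ha
    rw [h0, map_zero]
  have h5 : rk N k ≤ 1 := by
    unfold rk
    rw [← finrank_span_singleton (K := F) hne]
    exact Submodule.finrank_mono hr
  omega

theorem exists_rep [Fintype F] (hF : ringChar F ≠ 2) (h : IsSN B N) {k : ℕ} (hk : Odd k)
    (hρ : 2 ≤ rk N k) (c : F) : ∃ x, B x ((N ^ k) x) = c := by
  have h2 : (2 : F) ≠ 0 := Ring.two_ne_zero hF
  have hN : N ^ k ≠ 0 := by
    intro h0
    have := (rk_eq_zero_iff N k).2 h0
    omega
  obtain ⟨x₁, ha⟩ : ∃ x₁, B x₁ ((N ^ k) x₁) ≠ 0 := by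
    by_contra hcon
    push Not at hcon
    apply hN
    ext y
    rw [LinearMap.zero_apply]
    apply h.nondeg_right
    intro x
    have h1 := hcon (x + y)
    simp only [map_add, LinearMap.add_apply] at h1
    rw [hcon x, hcon y, h.symm_odd hk y x] at h1
    have h3 : 2 * B x ((N ^ k) y) = 0 := by linear_combination h1
    rcases mul_eq_zero.1 h3 with h4 | h4
    · exact absurd h4 h2
    · exact h4
  obtain ⟨x₂, h12, hb⟩ := exists_orth_ne_zero h h2 hk hρ x₁ ha
  obtain ⟨s, t, hst⟩ := exists_sq_add_sq hF ha hb c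
  refine ⟨s • x₁ + t • x₂, ?_⟩
  simp only [map_add, map_smul, LinearMap.add_apply, LinearMap.smul_apply, smul_eq_mul]
  rw [h.symm_odd hk x₂ x₁, h12]
  linear_combination hst

end rep

end Cfsg.Agent.Lib.Helper5.SpUnip
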