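import Cfsg.Agent.Lib.Helper5.SpUnip.Count

set_option autoImplicit false

/-!
# Invariant nondegenerate subspaces with prescribed sub-type
-/

namespace Cfsg.Agent.Lib.Helper5.SpUnip

open Module Cfsg.Agent.Lib.Helper4.JordanNil

universe u

variable {F : Type u} [Field F]

theorem rsum_add (μ ν : Multiset ℕ) (k : ℕ) : rsum (μ + ν) k = rsum μ k + rsum ν k := by
  unfold rsum
  rw [Multiset.map_add, Multiset.sum_add]

theorem rsum_cons (a : ℕ) (μ : Multiset ℕ) (k : ℕ) : rsum (a ::ₘ μ) k = (a - k) + rsum μ k := by
  unfold rsum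
  rw [Multiset.map_cons, Multiset.sum_cons]

section good

variable {V : Type*} [AddCommGroup V] [Module F V] {B : LinearMap.BilinForm F V} {N : V →ₗ[F] V}

theorem isGood_bot : IsGood B N (⊥ : Submodule F V) := by
  refine ⟨fun x hx => ?_, fun x hx _ => (Submodule.mem_bot F).1 hx⟩
  rw [(Submodule.mem_bot F).1 hx, map_zero]
  exact Submodule.zero_mem _

theorem good_map {Q : Submodule F V} (hQ : ∀ x ∈ Q, N x ∈ Q) {M₁ : Submodule F ↥Q}
    (hM₁ : IsGood (B.restrict Q) (N.restrict hQ) M₁) : IsGood B N (M₁.map Q.subtype) := by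
  refine ⟨?_, ?_⟩
  · rintro _ ⟨x, hx, rfl⟩
    exact ⟨(N.restrict hQ) x, hM₁.inv x hx, rfl⟩
  · rintro _ ⟨x, hx, rfl⟩ hx'
    have := hM₁.nd x hx (fun y hy => hx' _ ⟨y, hy, rfl⟩)
    rw [this, map_zero]

theorem finrank_map_subtype' {Q : Submodule F V} (M₁ : Submodule F ↥Q) :
    finrank F (M₁.map Q.subtype) = finrank F M₁ :=
  LinearEquiv.finrank_eq (Submodule.equivMapOfInjective Q.subtype Q.injective_subtype M₁).symm

theorem map_subtype_le {Q : Submodule F V} (M₁ : Submodule F ↥Q) : M₁.map Q.subtype ≤ Q := by
  rintro _ ⟨x, _, rfl⟩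
  exact x.2

theorem good_sup [FiniteDimensional F V] (h : IsSN B N) {P M : Submodule F V} (hP : IsGood B N P)
    (hM : IsGood B N M) (horth : M ≤ B.orthogonal P) :
    IsGood B N (P ⊔ M) ∧ finrank F ↥(P ⊔ M) = finrank F P + finrank F M := by
  have hPM : ∀ a ∈ P, ∀ b ∈ M, B a b = 0 := fun a ha b hb => (mem_orth_iff b).1 (horth hb) a ha
  have hMP : ∀ a ∈ P, ∀ b ∈ M, B b a = 0 := fun a ha b hb => by
    rw [h.swap, hPM a ha b hb, neg_zero]
  refine ⟨⟨?_, ?_⟩, ?_⟩
  · intro x hx
    obtain ⟨a, ha, b, hb, rfl⟩ := Submodule.mem_sup.1 hx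
    rw [map_add]
    exact Submodule.add_mem_sup (hP.inv a ha) (hM.inv b hb)
  · intro x hx hx'
    obtain ⟨a, ha, b, hb, rfl⟩ := Submodule.mem_sup.1 hx
    have ha0 : a = 0 := by
      apply hP.nd a ha
      intro y hy
      have := hx' y (Submodule.mem_sup_left hy)
      rw [map_add, LinearMap.add_apply, hMP y hy b hb, add_zero] at this
      exact this
    have hb0 : b = 0 := by
      apply hM.nd b hb
      intro y hy
      have := hx' y (Submodule.mem_sup_right hy)
      rw [map_add, LinearMap.add_apply, hPM a ha y hy, zero_add] at this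
      exact this
    rw [ha0, hb0, add_zero]
  · have hdisj : P ⊓ M = ⊥ := by
      rw [eq_bot_iff]
      intro x hx
      rw [Submodule.mem_bot]
      exact hP.nd x hx.1 (fun y hy => hMP y hy x hx.2)
    have := Submodule.finrank_sup_add_finrank_inf_eq P M
    rw [hdisj, finrank_bot, add_zero] at this
    exact this

end good

theorem odd_count_even (h2 : (2 : F) ≠ 0) {V : Type u} [AddCommGroup V] [Module F V]
    [FiniteDimensional F V] {B : LinearMap.BilinForm F V} {N : V →ₗ[F] V} (h : IsSN B N)
    {μ : Multiset ℕ} (hrk : ∀ k, rk N k = rsum μ k) (j : ℕ) (hj : Odd j) : Even (μ.count j) := by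
  obtain ⟨k, rfl⟩ : ∃ k, j = k + 1 := by
    obtain ⟨s, hs⟩ := hj
    exact ⟨2 * s, hs⟩
  have hk : Even k := by
    obtain ⟨s, hs⟩ := hj
    exact ⟨s, by omega⟩
  have h3 := rk_parity h2 _ V B N h rfl k hk
  have h4 := count_add μ k
  rw [hrk, hrk] at h3
  rw [Nat.even_iff] at h3 ⊢
  omega

/-- every admissible sub-type is realised by an invariant nondegenerate subspace -/
theorem exists_good_of_le (h2 : (2 : F) ≠ 0) :
    ∀ (n : ℕ) (V : Type u) [AddCommGroup V] [Module F V] [FiniteDimensional F V]
      (B : LinearMap.BilinForm F V) (N : V →ₗ[F] V), IsSN B N → finrank F V = n →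
      ∀ μ ν : Multiset ℕ, (∀ a ∈ μ, 0 < a) → (∀ k, rk N k = rsum μ k) → ν ≤ μ →
        (∀ j, Odd j → Even (ν.count j)) →
        ∃ M : Submodule F V, IsGood B N M ∧ finrank F M = ν.sum := by
  intro n
  induction n using Nat.strong_induction_on with
  | _ n IH =>
    intro V _ _ _ B N h hn μ ν hpos hrk hle hodd
    by_cases hν : ν = 0
    · exact ⟨⊥, isGood_bot, by rw [hν]; simp⟩
    have hn0 : 0 < finrank F V := by
      rw [← rk_zero N, hrk, rsum_zero]
      obtain ⟨a, ha⟩ := Multiset.exists_mem_of_ne_zero hν
      have ha' := Multiset.mem_of_le hle ha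
      have := Multiset.single_le_sum (fun x _ => Nat.zero_le x) a ha'
      have := hpos a ha'
      omega
    obtain ⟨i, hi1, hNi, hNi1⟩ := exists_index' h.nil hn0
    rcases Nat.even_or_odd i with hev | hod
    · have htop : Odd (i - 1) := by
        obtain ⟨s, hs⟩ := hev
        exact ⟨s - 1, by omega⟩
      obtain ⟨x, hx⟩ := exists_top_ne_zero h h2 htop hNi1
      obtain ⟨v, hv⟩ := peel_even h h2 hev hNi hx x rfl
      have hP := hv.good
      have hQ := hP.orth h
      have hSNQ := h.restrict hQ
      obtain ⟨μ', hpos', hrk'⟩ := exists_type (N.restrict hQ.inv) hSNQ.nil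
      have r1 := rk_split h hv
      have hPdim : finrank F ↥(Submodule.span F (Set.range v)) = i := by
        have := hv.rk 0
        rw [rk_zero] at this
        simpa [evE] using this
      have hQdim : finrank F ↥(B.orthogonal (Submodule.span F (Set.range v))) < n := by
        have := r1 0
        rw [rk_zero, rk_zero] at this
        simp only [evE, Finset.sum_const, Finset.card_univ, Fintype.card_fin, smul_eq_mul,
          Nat.sub_zero] at this
        omega
      have hμ : μ = i ::ₘ μ' := by
        apply eq_of_rsum_eq hpos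
        · intro a ha
          rcases Multiset.mem_cons.1 ha with rfl | ha
          · exact hi1
          · exact hpos' a ha
        · intro k
          rw [← hrk, r1, hrk', rsum_cons]
          simp [evE]
      by_cases hiν : i ∈ ν
      · have hle1 : ν.erase i ≤ μ' := by
          rw [Multiset.erase_le_iff_le_cons, ← hμ]
          exact hle
        have hodd1 : ∀ j, Odd j → Even ((ν.erase i).count j) := by
          intro j hj
          have hji : j ≠ i := by
            rintro rfl
            exact (Nat.not_even_iff_odd.2 hj) hev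
          rw [Multiset.count_erase_of_ne hji]
          exact hodd j hj
        obtain ⟨M₁, hM₁, hM₁dim⟩ := IH _ hQdim _ _ _ hSNQ rfl μ' (ν.erase i) hpos' hrk' hle1 hodd1
        have hgm := good_map hQ.inv hM₁
        obtain ⟨hg, hdim⟩ := good_sup h hP hgm (map_subtype_le M₁)
        refine ⟨_, hg, ?_⟩
        rw [hdim, hPdim, finrank_map_subtype', hM₁dim]
        conv_rhs => rw [← Multiset.cons_erase hiν, Multiset.sum_cons]
      · have hle1 : ν ≤ μ' := by
          rw [hμ] at hle
          exact (Multiset.le_cons_of_notMem hiν).1 hle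
        obtain ⟨M₁, hM₁, hM₁dim⟩ := IH _ hQdim _ _ _ hSNQ rfl μ' ν hpos' hrk' hle1 hodd
        exact ⟨_, good_map hQ.inv hM₁, by rw [finrank_map_subtype', hM₁dim]⟩
    · obtain ⟨v, hv⟩ := peel_odd h h2 hod hNi hNi1
      have hP := hv.good
      have hQ := hP.orth h
      have hSNQ := h.restrict hQ
      obtain ⟨μ', hpos', hrk'⟩ := exists_type (N.restrict hQ.inv) hSNQ.nil
      have r1 := rk_split h hv
      have hPdim : finrank F ↥(Submodule.span F (Set.range v)) = i + i := by
        have := hv.rk 0
        rw [rk_zero] at this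
        simp only [odE, Finset.sum_const, Finset.card_univ, Fintype.card_fin, smul_eq_mul,
          Nat.sub_zero] at this
        omega
      have hQdim : finrank F ↥(B.orthogonal (Submodule.span F (Set.range v))) < n := by
        have := r1 0
        rw [rk_zero, rk_zero] at this
        simp only [odE, Finset.sum_const, Finset.card_univ, Fintype.card_fin, smul_eq_mul,
          Nat.sub_zero] at this
        omega
      have hμ : μ = i ::ₘ i ::ₘ μ' := by
        apply eq_of_rsum_eq hpos
        · intro a ha
          rcases Multiset.mem_cons.1 ha with rfl | ha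
          · exact hi1
          · rcases Multiset.mem_cons.1 ha with rfl | ha
            · exact hi1
            · exact hpos' a ha
        · intro k
          rw [← hrk, r1, hrk', rsum_cons, rsum_cons]
          simp only [odE, Finset.sum_const, Finset.card_univ, Fintype.card_fin, smul_eq_mul]
          ring
      by_cases hiν : i ∈ ν
      · have hc2 : 2 ≤ ν.count i := by
          have h1 := Multiset.count_pos.2 hiν
          obtain ⟨s, hs⟩ := hodd i hod
          omega
        have hiν' : i ∈ ν.erase i := by
          rw [← Multiset.count_pos, Multiset.count_erase_self]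
          omega
        have hle1 : (ν.erase i).erase i ≤ μ' := by
          rw [Multiset.erase_le_iff_le_cons, Multiset.erase_le_iff_le_cons, ← hμ]
          exact hle
        have hodd1 : ∀ j, Odd j → Even (((ν.erase i).erase i).count j) := by
          intro j hj
          by_cases hji : j = i
          · rw [hji, Multiset.count_erase_self, Multiset.count_erase_self]
            obtain ⟨s, hs⟩ := hodd i hod
            exact ⟨s - 1, by omega⟩
          · rw [Multiset.count_erase_of_ne hji, Multiset.count_erase_of_ne hji]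
            exact hodd j hj
        obtain ⟨M₁, hM₁, hM₁dim⟩ :=
          IH _ hQdim _ _ _ hSNQ rfl μ' ((ν.erase i).erase i) hpos' hrk' hle1 hodd1
        have hgm := good_map hQ.inv hM₁
        obtain ⟨hg, hdim⟩ := good_sup h hP hgm (map_subtype_le M₁)
        refine ⟨_, hg, ?_⟩
        rw [hdim, hPdim, finrank_map_subtype', hM₁dim]
        conv_rhs => rw [← Multiset.cons_erase hiν, ← Multiset.cons_erase hiν', Multiset.sum_cons,
          Multiset.sum_cons]
        ring
      · have hle1 : ν ≤ μ' := by
          rw [hμ] at hle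
          exact (Multiset.le_cons_of_notMem hiν).1 ((Multiset.le_cons_of_notMem hiν).1 hle)
        obtain ⟨M₁, hM₁, hM₁dim⟩ := IH _ hQdim _ _ _ hSNQ rfl μ' ν hpos' hrk' hle1 hodd
        exact ⟨_, good_map hQ.inv hM₁, by rw [finrank_map_subtype', hM₁dim]⟩

/-- the type of a good subspace is a sub-multiset of the type -/
theorem type_of_good (h2 : (2 : F) ≠ 0) {V : Type u} [AddCommGroup V] [Module F V]
    [FiniteDimensional F V] {B : LinearMap.BilinForm F V} {N : V →ₗ[F] V} (h : IsSN B N)
    {μ : Multiset ℕ} (hpos : ∀ a ∈ μ, 0 < a) (hrk : ∀ k, rk N k = rsum μ k)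
    {M : Submodule F V} (hM : IsGood B N M) :
    ∃ ν : Multiset ℕ, ν ≤ μ ∧ ν.sum = finrank F M ∧ ∀ j, Odd j → Even (ν.count j) := by
  have hQ := hM.orth h
  have hSNM := h.restrict hM
  have hSNQ := h.restrict hQ
  obtain ⟨ν, hposν, hrkν⟩ := exists_type (N.restrict hM.inv) hSNM.nil
  obtain ⟨ν', hposν', hrkν'⟩ := exists_type (N.restrict hQ.inv) hSNQ.nil
  have hμ : μ = ν + ν' := by
    apply eq_of_rsum_eq hpos
    · intro a ha
      rcases Multiset.mem_add.1 ha with ha | ha
      · exact hposν a ha
      · exact hposν' a ha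
    · intro k
      rw [← hrk, ← rk_iso (split_iso h hM) k, rk_prod, hrkν, hrkν', rsum_add]
  refine ⟨ν, ?_, ?_, odd_count_even h2 hSNM hrkν⟩
  · rw [hμ]
    exact Multiset.le_add_right ν ν'
  · rw [← rsum_zero, ← hrkν, rk_zero]

end Cfsg.Agent.Lib.Helper5.SpUnip
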